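import Mathlib.RingTheory.Valuation.LocalSubring
import Mathlib.RingTheory.Spectrum.Prime.RingHom
import Mathlib.RingTheory.LocalRing.ResidueField.Basic
import Mathlib.RingTheory.Localization.AtPrime.Basic

/-!
# Valuation rings over finite chains of primes
-/

set_option autoImplicit false
universe u v

namespace K835.ChainVal

section Comp

variable {K : Type u} [Field K] (V : ValuationSubring K)
  (W : ValuationSubring (IsLocalRing.ResidueField V))

/-- The composite of a valuation subring with a valuation subring of its residue field. -/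
def compVal : ValuationSubring K where
  carrier := {x | ∃ h : x ∈ V, IsLocalRing.residue V ⟨x, h⟩ ∈ W}
  mul_mem' := by
    rintro a b ⟨ha, ha'⟩ ⟨hb, hb'⟩
    exact ⟨V.mul_mem _ _ ha hb, by
      have := W.mul_mem _ _ ha' hb'
      rwa [← map_mul] at this⟩
  one_mem' := ⟨V.one_mem, by
    have := W.one_mem
    rwa [← map_one (IsLocalRing.residue V)] at this⟩
  add_mem' := by
    rintro a b ⟨ha, ha'⟩ ⟨hb, hb'⟩
    exact ⟨V.add_mem _ _ ha hb, by
      have := W.add_mem _ _ ha' hb'
      rwa [← map_add] at this⟩
  zero_mem' := ⟨V.zero_mem, by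
    have := W.zero_mem
    rwa [← map_zero (IsLocalRing.residue V)] at this⟩
  neg_mem' := by
    rintro a ⟨ha, ha'⟩
    exact ⟨V.neg_mem _ ha, by
      have := W.neg_mem _ ha'
      rwa [← map_neg] at this⟩
  mem_or_inv_mem' := by
    intro x
    by_cases hx0 : x = 0
    · left
      subst hx0
      exact ⟨V.zero_mem, by
        have := W.zero_mem
        rwa [← map_zero (IsLocalRing.residue V)] at this⟩
    have hx0' : x⁻¹ ≠ 0 := inv_ne_zero hx0
    by_cases hx : x ∈ V
    · by_cases hx' : x⁻¹ ∈ V
      · rcases W.mem_or_inv_mem (IsLocalRing.residue V ⟨x, hx⟩) with h | h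
        · exact Or.inl ⟨hx, h⟩
        · right
          refine ⟨hx', ?_⟩
          have e : IsLocalRing.residue V ⟨x⁻¹, hx'⟩ = (IsLocalRing.residue V ⟨x, hx⟩)⁻¹ := by
            rw [eq_comm, inv_eq_of_mul_eq_one_right]
            rw [← map_mul, ← map_one (IsLocalRing.residue V)]
            congr 1
            ext
            exact mul_inv_cancel₀ hx0
          rwa [e]
      · left
        refine ⟨hx, ?_⟩
        have : IsLocalRing.residue V ⟨x, hx⟩ = 0 := by
          rw [IsLocalRing.residue_eq_zero_iff, IsLocalRing.mem_maximalIdeal, mem_nonunits_iff]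
          intro hu
          obtain ⟨⟨u, hu⟩, hu'⟩ := hu.exists_right_inv
          apply hx'
          have : x * u = 1 := congrArg Subtype.val hu'
          rwa [← eq_inv_of_mul_eq_one_right this]
        rw [this]
        exact W.zero_mem
    · right
      have hx' : x⁻¹ ∈ V := (V.mem_or_inv_mem x).resolve_left hx
      refine ⟨hx', ?_⟩
      have : IsLocalRing.residue V ⟨x⁻¹, hx'⟩ = 0 := by
        rw [IsLocalRing.residue_eq_zero_iff, IsLocalRing.mem_maximalIdeal, mem_nonunits_iff]
        intro hu
        obtain ⟨⟨u, hu⟩, hu'⟩ := hu.exists_right_inv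
        apply hx
        have : x⁻¹ * u = 1 := congrArg Subtype.val hu'
        have h2 : u = x := by
          have := eq_inv_of_mul_eq_one_right this
          rwa [inv_inv] at this
        rwa [← h2]
      rw [this]
      exact W.zero_mem

theorem mem_compVal {x : K} :
    x ∈ compVal V W ↔ ∃ h : x ∈ V, IsLocalRing.residue V ⟨x, h⟩ ∈ W := Iff.rfl

/-- the residue map `compVal V W → W`. -/
noncomputable def compRes : compVal V W →+* W where
  toFun x := ⟨IsLocalRing.residue V ⟨x.1, x.2.1⟩, x.2.2⟩
  map_one' := by
    ext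
    exact map_one (IsLocalRing.residue V)
  map_mul' a b := by
    ext
    exact map_mul (IsLocalRing.residue V) ⟨a.1, a.2.1⟩ ⟨b.1, b.2.1⟩
  map_zero' := by
    ext
    exact map_zero (IsLocalRing.residue V)
  map_add' a b := by
    ext
    exact map_add (IsLocalRing.residue V) ⟨a.1, a.2.1⟩ ⟨b.1, b.2.1⟩

end Comp

/-- For a finite chain of primes `p 0 ≤ p 1 ≤ ... ≤ p n` of a ring `A` and a field `K` under `A` with kernel
`p 0` there is a valuation subring of `K` containing the image of `A` and a chain of primes lifting
the given one. -/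
theorem exists_valuation_chain {A : Type u} [CommRing A] (n : ℕ) :
    ∀ {K : Type u} [Field K] (φ : A →+* K) (p : Fin (n + 1) → PrimeSpectrum A), Monotone p →
      (p 0).asIdeal = RingHom.ker φ →
    ∃ (V : ValuationSubring K) (h : ∀ a, φ a ∈ V.toSubring) (q : Fin (n + 1) → PrimeSpectrum V),
      Monotone q ∧ ∀ i, PrimeSpectrum.comap (φ.codRestrict V.toSubring h) (q i) = p i := by
  induction n with
  | zero =>
    intro K _ φ p hp h0
    refine ⟨⊤, fun a => trivial, fun _ => ⟨⊥, Ideal.isPrime_bot⟩, fun _ _ _ => le_rfl, ?_⟩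
    intro i
    obtain rfl : i = 0 := Fin.fin_one_eq_zero i
    apply PrimeSpectrum.ext
    rw [h0]
    ext a
    rw [RingHom.mem_ker]
    change (⟨φ a, trivial⟩ : (⊤ : ValuationSubring K)) = 0 ↔ _
    rw [Subtype.ext_iff]
    rfl
  | succ n ih =>
    intro K _ φ p hp h0
    let P := (p 1).asIdeal
    have hP : ∀ s : P.primeCompl, IsUnit (φ s) := by
      intro s
      rw [isUnit_iff_ne_zero]
      intro h
      apply s.2
      have h1 : (s : A) ∈ (p 0).asIdeal := by rw [h0]; exact h
      have h2 : (p 0).asIdeal ≤ (p 1).asIdeal := hp (by simp)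
      exact h2 h1
    let ψ : Localization.AtPrime P →+* K := IsLocalization.lift hP
    have hψ : ∀ a, ψ (algebraMap A _ a) = φ a := fun a => IsLocalization.lift_eq hP a
    obtain ⟨V₀, hV₀, hloc⟩ := IsLocalRing.exists_factor_valuationRing ψ
    let φ₀ : A →+* IsLocalRing.ResidueField V₀ :=
      (IsLocalRing.residue V₀).comp ((ψ.codRestrict V₀.toSubring hV₀).comp (algebraMap A _))
    have hker : (p 1).asIdeal = RingHom.ker φ₀ := by
      ext a
      rw [RingHom.mem_ker]
      change a ∈ P ↔ IsLocalRing.residue V₀ ((ψ.codRestrict V₀.toSubring hV₀)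
        (algebraMap A (Localization.AtPrime P) a)) = 0
      rw [IsLocalRing.residue_eq_zero_iff]
      have h2 : (IsLocalRing.maximalIdeal V₀).comap
          (show Localization.AtPrime P →+* V₀ from ψ.codRestrict V₀.toSubring hV₀) =
        IsLocalRing.maximalIdeal (Localization.AtPrime P) :=
        ((IsLocalRing.local_hom_TFAE
          (show Localization.AtPrime P →+* V₀ from ψ.codRestrict V₀.toSubring hV₀)).out 0 4).mp hloc
      have h3 : a ∈ P ↔ algebraMap A (Localization.AtPrime P) a ∈
          IsLocalRing.maximalIdeal (Localization.AtPrime P) :=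
        (IsLocalization.AtPrime.to_map_mem_maximal_iff _ P a).symm
      rw [h3, ← h2]
      exact Iff.rfl
    obtain ⟨V₁, hV₁, q₁, hq₁, hq₁'⟩ := ih φ₀ (fun i => p i.succ)
      (fun i j hij => hp (Fin.succ_le_succ_iff.mpr hij)) hker
    have hmem : ∀ a, φ a ∈ (compVal V₀ V₁).toSubring := by
      intro a
      have h1 : φ a ∈ V₀ := by
        rw [← hψ]; exact hV₀ _
      refine ⟨h1, ?_⟩
      have h2 := hV₁ a
      have e : φ₀ a = IsLocalRing.residue V₀ ⟨φ a, h1⟩ := by
        change IsLocalRing.residue V₀ _ = _
        congr 1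
        ext
        exact hψ a
      rw [e] at h2
      exact h2
    refine ⟨compVal V₀ V₁, hmem,
      Fin.cons ⟨⊥, Ideal.isPrime_bot⟩ (fun i => PrimeSpectrum.comap (compRes V₀ V₁) (q₁ i)), ?_, ?_⟩
    · intro i j hij
      induction i using Fin.cases with
      | zero => exact (bot_le : (⊥ : Ideal (compVal V₀ V₁)) ≤ _)
      | succ i =>
        induction j using Fin.cases with
        | zero => exact absurd hij (by simp)
        | succ j =>
          simp only [Fin.cons_succ]
          exact Ideal.comap_mono (hq₁ (Fin.succ_le_succ_iff.mp hij))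
    · intro i
      induction i using Fin.cases with
      | zero =>
        apply PrimeSpectrum.ext
        rw [h0]
        ext a
        rw [RingHom.mem_ker]
        change (⟨φ a, hmem a⟩ : compVal V₀ V₁) = 0 ↔ _
        rw [Subtype.ext_iff]
        rfl
      | succ i =>
        simp only [Fin.cons_succ]
        rw [← hq₁' i]
        apply PrimeSpectrum.ext
        ext a
        have e : compRes V₀ V₁ ((φ.codRestrict (compVal V₀ V₁).toSubring hmem) a) =
            (φ₀.codRestrict V₁.toSubring hV₁) a := by
          apply Subtype.ext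
          change IsLocalRing.residue V₀ _ = IsLocalRing.residue V₀ _
          congr 1
          ext
          exact (hψ a).symm
        change compRes V₀ V₁ ((φ.codRestrict (compVal V₀ V₁).toSubring hmem) a) ∈
          (q₁ i).asIdeal ↔ (φ₀.codRestrict V₁.toSubring hV₁) a ∈ (q₁ i).asIdeal
        rw [e]

end K835.ChainVal
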