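import Groth.Agent.Subtr.K835.Basic
import Groth.Agent.Subtr.K835.ChainVal
import Mathlib.RingTheory.Flat.TorsionFree
import Mathlib.RingTheory.Valuation.ValuationRing

/-!
# Lifting of finite chains along universally S-subtrusive morphisms
-/

set_option autoImplicit false
universe u
open CategoryTheory CategoryTheory.Limits AlgebraicGeometry MorphismProperty

namespace K835.Chain

open Subtr

/-- An injective homomorphism from a valuation ring to a domain is flat. -/
theorem flat_of_injective {V B : Type u} [CommRing V] [IsDomain V] [ValuationRing V] [CommRing B]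
    [IsDomain B] (θ : V →+* B) (hθ : Function.Injective θ) : θ.Flat := by
  algebraize [θ]
  change Module.Flat V B
  rw [Module.Flat.flat_iff_torsion_eq_bot_of_isBezout, eq_bot_iff]
  rintro b ⟨⟨a, ha⟩, hab⟩
  rw [Submodule.mem_bot]
  have h1 : θ a * b = 0 := hab
  rcases mul_eq_zero.mp h1 with h | h
  · exact absurd ((map_eq_zero_iff θ hθ).mp h) (nonZeroDivisors.ne_zero ha)
  · exact h

/-- Chains lift along generizing maps. -/
theorem lift_chain {X Y : Type*} [TopologicalSpace X] [TopologicalSpace Y] {g : X → Y}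
    (hg : GeneralizingMap g) (n : ℕ) : ∀ (y : Fin (n + 1) → Y)
    (_ : ∀ i j, i ≤ j → y i ⤳ y j) (x : X) (_ : y (Fin.last n) ⤳ g x),
    ∃ x' : Fin (n + 1) → X, (∀ i j, i ≤ j → x' i ⤳ x' j) ∧ (∀ i, g (x' i) = y i) ∧
      x' (Fin.last n) ⤳ x := by
  induction n with
  | zero =>
    intro y hy x hx
    obtain ⟨x', hx', h⟩ := hg hx
    refine ⟨fun _ => x', fun _ _ _ => specializes_refl _, fun i => ?_, hx'⟩
    obtain rfl : i = Fin.last 0 := Fin.fin_one_eq_zero i
    exact h
  | succ n ih =>
    intro y hy x hx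
    obtain ⟨x₀, hx₀, h⟩ := hg hx
    obtain ⟨x₁, h1, h2, h3⟩ := ih (fun i => y i.castSucc)
      (fun i j hij => hy _ _ (Fin.castSucc_le_castSucc_iff.mpr hij)) x₀ (by
        rw [h]
        exact hy _ _ (Fin.castSucc_lt_last _).le)
    refine ⟨Fin.snoc x₁ x₀, ?_, ?_, ?_⟩
    · intro i j hij
      induction j using Fin.lastCases with
      | last =>
        induction i using Fin.lastCases with
        | last => exact specializes_refl _
        | cast i =>
          simp only [Fin.snoc_castSucc, Fin.snoc_last]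
          exact (h1 _ _ (Fin.le_last _)).trans h3
      | cast j =>
        induction i using Fin.lastCases with
        | last => exact absurd hij (not_le.mpr (Fin.castSucc_lt_last _))
        | cast i =>
          simp only [Fin.snoc_castSucc]
          exact h1 _ _ (Fin.castSucc_le_castSucc_iff.mp hij)
    · intro i
      induction i using Fin.lastCases with
      | last => simp only [Fin.snoc_last]; exact h
      | cast i => simp only [Fin.snoc_castSucc]; exact h2 i
    · simp only [Fin.snoc_last]; exact hx₀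

theorem specMap_comp_apply {R S : CommRingCat.{u}} (φ : R ⟶ S) {X : Scheme.{u}} (g : Spec R ⟶ X)
    (b : PrimeSpectrum S) :
    (Spec.map φ ≫ g) (show Spec S from b) =
      g (show Spec R from PrimeSpectrum.comap φ.hom b) := rfl

/-- the generic point of the spectrum of a domain -/
def gen (B : Type u) [CommRing B] [IsDomain B] : Spec (CommRingCat.of B) :=
  (⟨⊥, Ideal.isPrime_bot⟩ : PrimeSpectrum B)

/-- Ring version: a surjection `A → A/p` gives a closed immersion whose image is `V(p)`. -/
theorem exists_quot {A : Type u} [CommRing A] (p q : PrimeSpectrum A) (h : p ≤ q) :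
    ∃ b : PrimeSpectrum (A ⧸ p.asIdeal),
      PrimeSpectrum.comap (Ideal.Quotient.mk p.asIdeal) b = q := by
  have hk : RingHom.ker (Ideal.Quotient.mk p.asIdeal) ≤ q.asIdeal := by
    rw [Ideal.mk_ker]; exact h
  have : (q.asIdeal.map (Ideal.Quotient.mk p.asIdeal)).IsPrime :=
    Ideal.map_isPrime_of_surjective Ideal.Quotient.mk_surjective hk
  refine ⟨⟨q.asIdeal.map (Ideal.Quotient.mk p.asIdeal), this⟩, ?_⟩
  apply PrimeSpectrum.ext
  change Ideal.comap _ (Ideal.map _ _) = _
  rw [Ideal.comap_map_of_surjective _ Ideal.Quotient.mk_surjective, ← RingHom.ker_eq_comap_bot]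
  exact sup_eq_left.mpr hk

theorem comap_quot_bot {A : Type u} [CommRing A] (p : PrimeSpectrum A) :
    PrimeSpectrum.comap (Ideal.Quotient.mk p.asIdeal) ⟨⊥, Ideal.isPrime_bot⟩ = p := by
  apply PrimeSpectrum.ext
  change Ideal.comap (Ideal.Quotient.mk p.asIdeal) ⊥ = _
  rw [← RingHom.ker_eq_comap_bot, Ideal.mk_ker]

/-- A morphism from the spectrum of a domain to the spectrum of a valuation ring that maps the generic
point to the generic point is flat. -/
theorem flat_of_gen {V B : Type u} [CommRing V] [IsDomain V] [ValuationRing V]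
    [CommRing B] [IsDomain B] (g : Spec (CommRingCat.of B) ⟶ Spec (CommRingCat.of V))
    (h : g (gen B) = gen V) : Flat g := by
  obtain ⟨θ, rfl⟩ := Spec.map_surjective g
  rw [Flat.SpecMap_iff]
  apply flat_of_injective
  rw [injective_iff_map_eq_zero]
  intro a ha
  have h2 := congrArg PrimeSpectrum.asIdeal h
  have h3 : Ideal.comap θ.hom ⊥ = (⊥ : Ideal V) := h2
  have h4 : a ∈ Ideal.comap θ.hom ⊥ := by
    rw [Ideal.mem_comap]; exact ha
  rw [h3] at h4
  exact h4

/-- An ordered pair of points of a scheme is the image of the pair given by a point of the spectrum of a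
domain and the generic point. -/
theorem exists_domain {X : Scheme.{u}} {x x' : X} (h : x' ⤳ x) :
    ∃ (B : Type u) (_ : CommRing B) (_ : IsDomain B) (g : Spec (CommRingCat.of B) ⟶ X)
      (b : Spec (CommRingCat.of B)), g b = x ∧ g (gen B) = x' := by
  obtain ⟨W, hW, hxW, -⟩ := exists_isAffineOpen_mem_and_subset (x := x) (U := ⊤) trivial
  have hx'W : x' ∈ W := h.mem_open W.2 hxW
  obtain ⟨P, hP⟩ : x ∈ Set.range hW.fromSpec := by rw [hW.range_fromSpec]; exact hxW
  obtain ⟨P', hP'⟩ : x' ∈ Set.range hW.fromSpec := by rw [hW.range_fromSpec]; exact hx'W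
  have hPP : P' ⤳ P := by
    refine hW.fromSpec.isOpenEmbedding.isInducing.specializes_iff.mp ?_
    rw [hP, hP']; exact h
  let p : PrimeSpectrum Γ(X, W) := P
  let p' : PrimeSpectrum Γ(X, W) := P'
  have hle : p' ≤ p := (PrimeSpectrum.le_iff_specializes _ _).mpr hPP
  obtain ⟨b, hb⟩ := exists_quot p' p hle
  refine ⟨Γ(X, W) ⧸ p'.asIdeal, inferInstance, inferInstance,
    Spec.map (CommRingCat.ofHom (Ideal.Quotient.mk p'.asIdeal)) ≫ hW.fromSpec, b, ?_, ?_⟩
  · rw [← hP]
    exact (specMap_comp_apply _ _ _).trans (congrArg hW.fromSpec hb)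
  · rw [← hP']
    exact (specMap_comp_apply _ _ _).trans (congrArg hW.fromSpec (comap_quot_bot p'))

/-- If the closed and the generic point of the spectrum of a valuation ring lift to an ordered pair
of points then there is a morphism from the spectrum of a domain, flat over the valuation ring, with a
point over the closed point. -/
theorem exists_flat {V : Type u} [CommRing V] [IsDomain V] [ValuationRing V] {X : Scheme.{u}}
    (f : X ⟶ Spec (CommRingCat.of V)) {x x' : X} (h : x' ⤳ x) (hx' : f x' = gen V) :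
    ∃ (B : Type u) (_ : CommRing B) (_ : IsDomain B) (g : Spec (CommRingCat.of B) ⟶ X)
      (b : Spec (CommRingCat.of B)), g b = x ∧ g (gen B) = x' ∧ Flat (g ≫ f) := by
  obtain ⟨B, _, _, g, b, hb, hg⟩ := exists_domain h
  refine ⟨B, inferInstance, inferInstance, g, b, hb, hg, ?_⟩
  apply flat_of_gen
  rw [Scheme.Hom.comp_apply, hg, hx']

/-- The generic and the closed point of the spectrum of a local domain. -/
theorem gen_specializes {V : Type u} [CommRing V] [IsDomain V] (p : Spec (CommRingCat.of V)) :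
    gen V ⤳ p :=
  (PrimeSpectrum.le_iff_specializes (R := V) _ _).mp (bot_le : (⊥ : Ideal V) ≤ _)

/-- Over a valuation ring, chains lift along S-subtrusive morphisms. -/
theorem lift_chain_valuationRing {V : Type u} [CommRing V] [IsDomain V] [ValuationRing V]
    {X : Scheme.{u}} (f : X ⟶ Spec (CommRingCat.of V)) (hf : IsSSubtrusive f) (n : ℕ)
    (y : Fin (n + 1) → Spec (CommRingCat.of V)) (hy : ∀ i j, i ≤ j → y i ⤳ y j) :
    ∃ x : Fin (n + 1) → X, (∀ i j, i ≤ j → x i ⤳ x j) ∧ ∀ i, f (x i) = y i := by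
  have h0 : gen V ⤳ (show Spec (CommRingCat.of V) from IsLocalRing.closedPoint V) :=
    gen_specializes _
  obtain ⟨x, x', hx, hfx, hfx'⟩ := hf h0
  obtain ⟨B, _, _, g, b, hgb, -, hflat⟩ := exists_flat f hx hfx'
  obtain ⟨z, hz1, hz2, -⟩ := lift_chain (Flat.generalizingMap (g ≫ f)) n y hy b (by
    rw [Scheme.Hom.comp_apply, hgb, hfx]
    exact IsLocalRing.specializes_closedPoint (R := V) _)
  refine ⟨fun i => g (z i), fun i j hij => (hz1 i j hij).map g.continuous, fun i => ?_⟩
  rw [← Scheme.Hom.comp_apply]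
  exact hz2 i

/-- Existence of a valuation ring over a finite chain of points. -/
theorem exists_valuationRing {Y : Scheme.{u}} (n : ℕ) (y : Fin (n + 1) → Y)
    (hy : ∀ i j, i ≤ j → y i ⤳ y j) :
    ∃ (V : Type u) (_ : CommRing V) (_ : IsDomain V) (_ : ValuationRing V)
      (g : Spec (CommRingCat.of V) ⟶ Y) (q : Fin (n + 1) → Spec (CommRingCat.of V)),
      (∀ i j, i ≤ j → q i ⤳ q j) ∧ ∀ i, g (q i) = y i := by
  obtain ⟨W, hW, hyW, -⟩ :=
    exists_isAffineOpen_mem_and_subset (x := y (Fin.last n)) (U := ⊤) trivial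
  have hyW' : ∀ i, ∃ P, hW.fromSpec P = y i := fun i => by
    have : y i ∈ Set.range hW.fromSpec := by
      rw [hW.range_fromSpec]
      exact (hy i _ (Fin.le_last i)).mem_open W.2 hyW
    exact this
  choose p₀ hp₀ using hyW'
  let p : Fin (n + 1) → PrimeSpectrum Γ(Y, W) := p₀
  have hp : ∀ i, hW.fromSpec (p i) = y i := hp₀
  have hpm : ∀ i j, i ≤ j → p i ⤳ p j := fun i j hij => by
    refine hW.fromSpec.isOpenEmbedding.isInducing.specializes_iff.mp ?_
    rw [hp, hp]; exact hy i j hij
  obtain ⟨V, hV, q, hq, hq'⟩ := ChainVal.exists_valuation_chain n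
    (algebraMap Γ(Y, W) (p 0).asIdeal.ResidueField) p
    (fun i j hij => (PrimeSpectrum.le_iff_specializes _ _).mpr (hpm i j hij))
    (by rw [Ideal.ker_algebraMap_residueField])
  refine ⟨V, inferInstance, inferInstance, inferInstance,
    Spec.map (CommRingCat.ofHom
      (show Γ(Y, W) →+* V from (algebraMap Γ(Y, W) (p 0).asIdeal.ResidueField).codRestrict V.toSubring hV)) ≫
      hW.fromSpec, q, ?_, ?_⟩
  · intro i j hij
    exact (PrimeSpectrum.le_iff_specializes _ _).mp (hq hij)
  · intro i
    rw [← hp i]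
    exact (specMap_comp_apply _ _ _).trans (congrArg hW.fromSpec (hq' i))

/-- Finite chains of points lift along universally S-subtrusive morphisms. -/
theorem lift_chain_of_univSSubtrusive {X Y : Scheme.{u}} (f : X ⟶ Y)
    (hf : Subtr.UnivSSubtrusive f) (n : ℕ) (y : Fin (n + 1) → Y)
    (hy : ∀ i j : Fin (n + 1), i ≤ j → y i ⤳ y j) :
    ∃ x : Fin (n + 1) → X, (∀ i j : Fin (n + 1), i ≤ j → x i ⤳ x j) ∧ ∀ i, f (x i) = y i := by
  obtain ⟨V, _, _, _, g, q, hq, hq'⟩ := exists_valuationRing n y hy
  obtain ⟨x, hx, hx'⟩ := lift_chain_valuationRing (pullback.snd f g)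
    (Basic.iff_pullback_snd.mp hf _ g) n q hq
  refine ⟨fun i => pullback.fst f g (x i),
    fun i j hij => (hx i j hij).map (pullback.fst f g).continuous, fun i => ?_⟩
  rw [← Scheme.Hom.comp_apply, pullback.condition, Scheme.Hom.comp_apply, hx', hq']

end K835.Chain
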