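import Groth.Agent.Subtr.K835.Pro
import Groth.Agent.Subtr.K835.Chain
import Mathlib.Topology.LocallyClosed

/-!
# Descent of retrocompact locally closed subsets
-/

set_option autoImplicit false
universe u
open CategoryTheory CategoryTheory.Limits AlgebraicGeometry MorphismProperty ProCons Topology

namespace K835.LocClosed

open Subtr Groth.Agent.Ega4fib.H119.ProInd Groth.Agent.Ega4fib.H119.ProIndScheme

variable {X Y : Scheme.{u}}

theorem interC_of_isClosed {T : Type*} [TopologicalSpace T] [CompactSpace T]
    [QuasiSeparatedSpace T] [PrespectralSpace T] {E : Set T} (hE : IsClosed E) : InterC E := by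
  rw [interC_iff]
  intro x hx
  obtain ⟨V, ⟨hVo, hVc⟩, hxV, hVE⟩ := (PrespectralSpace.isTopologicalBasis (X := T)).exists_subset_of_mem_open
    (show x ∈ Eᶜ from hx) hE.isOpen_compl
  refine ⟨Vᶜ, (hVc.isConstructible hVo).compl, Set.subset_compl_comm.mp hVE, fun h => h hxV⟩

/-- closed subsets are pro-constructible -/
theorem isPro_of_isClosed {E : Set X} (hE : IsClosed E) : IsProConstructible E := by
  rw [isPro_iff_affineOpens]
  intro U
  have : IsAffine (U : X.Opens) := U.2
  exact interC_of_isClosed (hE.preimage continuous_subtype_val)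

/-- Locally closed retrocompact subsets of a spectral space. -/
theorem interC_of_isLocallyClosed {T : Type*} [TopologicalSpace T] [CompactSpace T]
    [QuasiSeparatedSpace T] [PrespectralSpace T] {E : Set T} (hE : IsLocallyClosed E)
    (hc : IsCompact E) : InterC E := by
  obtain ⟨O, Z, hO, hZ, rfl⟩ := hE
  obtain ⟨O', hO'c, hO'o, h1, h2⟩ : ∃ O' : Set T, IsCompact O' ∧ IsOpen O' ∧ O ∩ Z ⊆ O' ∧ O' ⊆ O := by
    have hb := PrespectralSpace.isTopologicalBasis (X := T)
    have key : ∀ x ∈ O ∩ Z, ∃ V : Set T, (IsOpen V ∧ IsCompact V) ∧ x ∈ V ∧ V ⊆ O := fun x hx =>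
      hb.exists_subset_of_mem_open hx.1 hO
    choose! V hV hxV hVO using key
    obtain ⟨t, ht⟩ := hc.elim_nhds_subcover' (fun x _ => V x)
      (fun x hx => (hV x hx).1.mem_nhds (hxV x hx))
    refine ⟨⋃ x ∈ t, V x, t.isCompact_biUnion fun x _ => (hV x x.2).2,
      isOpen_biUnion fun x _ => (hV x x.2).1, ht, Set.iUnion₂_subset fun x _ => hVO x x.2⟩
  have e : O ∩ Z = O' ∩ Z := by
    apply subset_antisymm
    · exact fun x hx => ⟨h1 hx, hx.2⟩
    · exact fun x hx => ⟨h2 hx.1, hx.2⟩
  rw [e]
  exact (interC_of_isConstructible (hO'c.isConstructible hO'o)).inter (interC_of_isClosed hZ)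

theorem isPro_of_isLocallyClosed {E : Set X} (hE : IsLocallyClosed E) (hc : IsRetrocompact E) :
    IsProConstructible E := by
  rw [isPro_iff_affineOpens]
  intro U
  have hU : IsAffine (U : X.Opens) := U.2
  have h1 : IsCompact ((U.1.ι : U.1 → X) ⁻¹' E) := by
    rw [U.1.ι.isOpenEmbedding.isInducing.isCompact_iff, Set.image_preimage_eq_inter_range,
      Scheme.Opens.range_ι]
    exact hc U.2.isCompact U.1.2
  exact interC_of_isLocallyClosed (T := (U.1 : Scheme.{u})) (hE.preimage U.1.ι.continuous) h1

/-- pro-constructible subsets are retrocompact. -/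
theorem isRetrocompact_of_isPro {E : Set X} (hE : IsProConstructible E) : IsRetrocompact E := by
  intro U hUc hUo
  let U' : X.Opens := ⟨U, hUo⟩
  have : CompactSpace (U' : X.Opens) := isCompact_iff_compactSpace.mp hUc
  obtain ⟨B, g, hg⟩ := exists_affine_range (X := (U' : Scheme.{u}))
    (isPro_preimage_of_isOpenEmbedding U'.ι.isOpenEmbedding hE)
  have h1 : IsCompact (Set.range g) := isCompact_range g.continuous
  rw [hg] at h1
  have h2 : IsCompact (U'.ι '' (U'.ι ⁻¹' E)) := h1.image U'.ι.continuous
  have h3 : U'.ι '' (U'.ι ⁻¹' E) = E ∩ U := by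
    rw [Set.image_preimage_eq_inter_range, Scheme.Opens.range_ι]
    rfl
  rwa [h3] at h2

/-- Stability under specialization and pro-constructibility imply closedness. -/
theorem isClosed_of_isPro {E : Set X} (hE : IsProConstructible E)
    (h : StableUnderSpecialization E) : IsClosed E := by
  rw [← closure_subset_iff_isClosed]
  intro x hx
  obtain ⟨z, hz, hzx⟩ := Pro.exists_specializes_of_mem_closure hE hx
  exact h hzx hz

theorem isLocallyClosed_iff_isClosed_diff {T : Type*} [TopologicalSpace T] {E : Set T} :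
    IsLocallyClosed E ↔ IsClosed (closure E \ E) := by
  rw [isLocallyClosed_iff_isOpen_coborder, coborder, isOpen_compl_iff]

theorem iff_preimage {S' S : Scheme.{u}} (f : S' ⟶ S)
    [QuasiCompact f] (hf : Subtr.UnivSSubtrusive f) (E : Set S) :
    (IsLocallyClosed E ∧ IsRetrocompact E) ↔
      (IsLocallyClosed (f ⁻¹' E) ∧ IsRetrocompact (f ⁻¹' E)) := by
  constructor
  · rintro ⟨h1, h2⟩
    exact ⟨h1.preimage f.continuous,
      isRetrocompact_of_isPro (isPro_preimage f (isPro_of_isLocallyClosed h1 h2))⟩
  · rintro ⟨h1, h2⟩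
    have hsurj : Function.Surjective f := (Basic.surjective hf).surj
    have hEim : f '' (f ⁻¹' E) = E := Set.image_preimage_eq _ hsurj
    have hPro : IsProConstructible E := by
      rw [← hEim]
      exact isPro_image f (isPro_of_isLocallyClosed h1 h2)
    refine ⟨?_, isRetrocompact_of_isPro hPro⟩
    rw [isLocallyClosed_iff_isClosed_diff] at h1 ⊢
    have hF : closure E \ E = f '' (closure (f ⁻¹' E) \ f ⁻¹' E) := by
      apply subset_antisymm
      · rintro z ⟨hz, hzE⟩
        obtain ⟨e, he, hez⟩ := Pro.exists_specializes_of_mem_closure hPro hz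
        obtain ⟨x, x', hx, rfl, rfl⟩ := Basic.isSS hf hez
        refine ⟨x, ⟨closure_mono (Set.singleton_subset_iff.mpr (show x' ∈ f ⁻¹' E from he))
          (specializes_iff_mem_closure.mp hx), hzE⟩, rfl⟩
      · rintro _ ⟨x, ⟨hx, hxE⟩, rfl⟩
        exact ⟨f.continuous.closure_preimage_subset _ hx, hxE⟩
    have hPro2 : IsProConstructible (closure E \ E) := by
      rw [hF]
      exact isPro_image f (isPro_of_isClosed h1)
    apply isClosed_of_isPro hPro2
    intro z z' hzz hz
    have hz' : z' ∈ closure E := hzz.mem_closed isClosed_closure hz.1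
    refine ⟨hz', fun hz'E => ?_⟩
    obtain ⟨e, he, hez⟩ := Pro.exists_specializes_of_mem_closure hPro hz.1
    obtain ⟨x, hx, hx'⟩ := Chain.lift_chain_of_univSSubtrusive f hf 2 ![e, z, z'] (by
      intro i j hij
      fin_cases i <;> fin_cases j <;>
        first
        | exact specializes_refl _
        | exact hez
        | exact hzz
        | exact hez.trans hzz
        | exact absurd hij (by decide))
    have e0 : f (x 0) = e := hx' 0
    have e1 : f (x 1) = z := hx' 1
    have e2 : f (x 2) = z' := hx' 2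
    have h01 : x 0 ⤳ x 1 := hx 0 1 (by decide)
    have h12 : x 1 ⤳ x 2 := hx 1 2 (by decide)
    have hC1 : x 1 ∈ closure (f ⁻¹' E) \ f ⁻¹' E := by
      refine ⟨closure_mono (Set.singleton_subset_iff.mpr (show x 0 ∈ f ⁻¹' E from ?_))
        (specializes_iff_mem_closure.mp h01), fun h => hz.2 ?_⟩
      · change f (x 0) ∈ E
        rw [e0]; exact he
      · rw [← e1]; exact h
    have hC2 := h12.mem_closed h1 hC1
    apply hC2.2
    change f (x 2) ∈ E
    rw [e2]; exact hz'E

end K835.LocClosed
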