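import Groth.Agent.S0386
import Groth.Agent.Subtr.K835.LocClosed

/-!
# Generic flatness over reduced schemes with a quasi-compact set of maximal points
-/

set_option autoImplicit false
universe u
open CategoryTheory CategoryTheory.Limits AlgebraicGeometry MorphismProperty ProCons Topology

namespace K835.GenFlat

open Groth.Agent.Ega4fib.H119.ProInd Groth.Agent.Ega4fib.H119.ProIndScheme

/-- a maximal point -/
def IsMaxPt {Y : Scheme.{u}} (y : Y) : Prop := ∀ y' : Y, y' ⤳ y → y' = y

theorem isField_stalk {Y : Scheme.{u}} [IsReduced Y] {y : Y} (hy : IsMaxPt y) :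
    IsField (Y.presheaf.stalk y) := by
  apply isField_stalk_of_closure_mem_irreducibleComponents
  have h := irreducibleComponent_mem_irreducibleComponents y
  have hTi : IsIrreducible (irreducibleComponent y) := isIrreducible_irreducibleComponent
  have hTc : IsClosed (irreducibleComponent y) := isClosed_irreducibleComponent
  have hg : closure {hTi.genericPoint} = irreducibleComponent y := by
    have := hTi.isGenericPoint_genericPoint_closure
    rw [hTc.closure_eq] at this
    exact this
  have h1 : hTi.genericPoint = y := by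
    apply hy
    rw [specializes_iff_mem_closure, hg]
    exact mem_irreducibleComponent
  rw [← h1, hg]
  exact h

theorem dense_of_max {Y : Scheme.{u}} {U : Set Y} (hU : ∀ y : Y, IsMaxPt y → y ∈ U) : Dense U := by
  intro y
  obtain ⟨y', hy', hmax⟩ := Pro.exists_maximal y
  exact closure_mono (Set.singleton_subset_iff.mpr (hU _ hmax))
    (specializes_iff_mem_closure.mp hy')

/-- A quasi-compact set of points contained in an open is contained in a quasi-compact open contained in
the given open. -/
theorem exists_compact_open {Y : Scheme.{u}} {K : Set Y} (hK : IsCompact K) (O : Y.Opens)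
    (hO : K ⊆ O) : ∃ U : Y.Opens, K ⊆ U ∧ IsCompact (U : Set Y) ∧ U ≤ O := by
  have key : ∀ x ∈ K, ∃ V : Y.Opens, IsAffineOpen V ∧ x ∈ V ∧ V ≤ O := fun x hx =>
    exists_isAffineOpen_mem_and_subset (x := x) (U := O) (hO hx)
  choose! V hV hxV hVO using key
  obtain ⟨t, ht⟩ := hK.elim_nhds_subcover' (fun x _ => (V x : Set Y))
    (fun x hx => (V x).2.mem_nhds (hxV x hx))
  refine ⟨⨆ x ∈ t, V x, ?_, ?_, iSup₂_le fun x _ => hVO x x.2⟩
  · intro x hx
    have := ht hx
    simpa using this
  · have e : ((⨆ x ∈ t, V x : Y.Opens) : Set Y) = ⋃ x ∈ t, (V x : Set Y) := by simp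
    rw [e]
    exact t.isCompact_biUnion fun x _ => (hV x x.2).isCompact

/-- If `f` is quasi-compact and `W` is an open subset of `X` containing the fibres over the maximal
points, then there is a quasi-compact open containing the maximal points over which `W` is everything. -/
theorem exists_open {X Y : Scheme.{u}} (hgen : IsCompact {y : Y | IsMaxPt y}) (f : X ⟶ Y)
    [QuasiCompact f] (W : X.Opens) (hW : ∀ x : X, IsMaxPt (f x) → x ∈ W) :
    ∃ U : Y.Opens, (∀ y, IsMaxPt y → y ∈ U) ∧ IsCompact (U : Set Y) ∧ f ⁻¹ᵁ U ≤ W := by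
  have hpro : IsProConstructible (f '' (W : Set X)ᶜ) :=
    isPro_image f (LocClosed.isPro_of_isClosed W.2.isClosed_compl)
  let O : Y.Opens := ⟨(closure (f '' (W : Set X)ᶜ))ᶜ, isClosed_closure.isOpen_compl⟩
  have hO : {y : Y | IsMaxPt y} ⊆ O := by
    intro y hy hy'
    obtain ⟨_, ⟨x, hx, rfl⟩, hxy⟩ := Pro.exists_specializes_of_mem_closure hpro hy'
    have h1 : f x = y := hy _ hxy
    exact hx (hW x (h1 ▸ hy))
  obtain ⟨U, hKU, hUc, hUO⟩ := exists_compact_open hgen O hO
  refine ⟨U, hKU, hUc, ?_⟩
  intro x hx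
  by_contra hxW
  exact hUO hx (subset_closure ⟨x, hxW, rfl⟩)

theorem exists_dense_open_flat {X Y : Scheme.{u}} [IsReduced Y]
    (hgen : IsCompact {y : Y | IsMaxPt y})
    (f : X ⟶ Y) [LocallyOfFinitePresentation f] [QuasiCompact f] :
    ∃ U : Y.Opens, (∀ y, IsMaxPt y → y ∈ U) ∧ IsCompact (U : Set Y) ∧ Flat (f ∣_ U) := by
  let W : X.Opens := ⟨{x : X | (f.stalkMap x).hom.Flat}, Groth.Agent.S0386.result f⟩
  obtain ⟨U, hU1, hU2, hU3⟩ := exists_open hgen f W (fun x hx => by
    change (f.stalkMap x).hom.Flat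
    let _ : Field (Y.presheaf.stalk (f x)) := (isField_stalk hx).toField
    algebraize [(f.stalkMap x).hom]
    change Module.Flat _ _
    infer_instance)
  refine ⟨U, hU1, hU2, ?_⟩
  apply Flat.of_stalkMap
  intro x
  have h1 : (f.stalkMap ((f ⁻¹ᵁ U).ι x)).hom.Flat := hU3 x.2
  have := (RingHom.toMorphismProperty_respectsIso_iff (P := RingHom.Flat)).mp
    RingHom.Flat.respectsIso
  exact ((RingHom.toMorphismProperty RingHom.Flat).arrow_mk_iso_iff
    (morphismRestrictStalkMap f U x)).mpr h1

end K835.GenFlat
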