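import Groth.Agent.S1273
import Groth.Agent.Flat2C.StrictTr
import Groth.Agent.Flat2C.BlowProper
import Groth.Agent.Ega2.BlowBasic
import Groth.Agent.Subtr.K835.GenFlat

/-!
# Blowing up makes a universally S-subtrusive morphism of finite presentation flat and surjective
-/

set_option autoImplicit false
universe u
open CategoryTheory CategoryTheory.Limits AlgebraicGeometry MorphismProperty Topology

namespace K835.Flatten

open Subtr Groth.Agent.Flat2C.StrictTr GenFlat

/-- The complement of an effective Cartier divisor contains all maximal points. -/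
theorem mem_compl_of_isMax {Y : Scheme.{u}} {E : Y.IdealSheafData}
    (hE : BlowUp.IsEffCartierIdeal E) {y : Y} (hy : IsMaxPt y) : y ∈ compl E := by
  obtain ⟨W, g, hyW, hg, hD⟩ := Groth.Agent.Ega2.BlowBasic.exists_basicOpen_eq hE y
  have h1 : y ∈ Y.basicOpen g := by
    obtain ⟨P, hP⟩ : y ∈ Set.range W.2.fromSpec := by rw [W.2.range_fromSpec]; exact hyW
    let p : PrimeSpectrum Γ(Y, W.1) := P
    have hp : p.asIdeal ∈ minimalPrimes Γ(Y, W.1) := by
      refine ⟨⟨p.2, bot_le⟩, ?_⟩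
      intro q hq hqp
      have h2 : (⟨q, hq.1⟩ : PrimeSpectrum Γ(Y, W.1)) ⤳ p :=
        (PrimeSpectrum.le_iff_specializes _ _).mp hqp
      have h3 := h2.map W.2.fromSpec.continuous
      have h4 := hy (W.2.fromSpec (show Spec Γ(Y, W.1) from (⟨q, hq.1⟩ : PrimeSpectrum Γ(Y, W.1))))
        (by rw [← hP]; exact h3)
      have h5 : (show Spec Γ(Y, W.1) from (⟨q, hq.1⟩ : PrimeSpectrum Γ(Y, W.1))) = P :=
        W.2.fromSpec.isOpenEmbedding.injective (h4.trans hP.symm)
      have h6 : q = p.asIdeal := congrArg PrimeSpectrum.asIdeal h5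
      exact h6.ge
    have hgp : g ∉ p.asIdeal := by
      intro hgp
      exact Ideal.disjoint_nonZeroDivisors_of_mem_minimalPrimes hp |>.le_bot ⟨hgp, hg⟩
    have h2 : P ∈ (W.2.fromSpec ⁻¹ᵁ Y.basicOpen g) := by
      rw [W.2.fromSpec_preimage_basicOpen]
      exact hgp
    have h3 : W.2.fromSpec P ∈ Y.basicOpen g := h2
    rwa [hP] at h3
  rw [hD] at h1
  exact h1.2

/-- A blow-up in an ideal of finite type whose support avoids all maximal points is surjective. -/
theorem surjective_of_isBlowUp {Y Y' : Scheme.{u}} {I : Y.IdealSheafData} {b : Y' ⟶ Y}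
    (hb : BlowUp.IsBlowUp b I) (hI : BlowUp.IsFiniteTypeIdeal I)
    (hd : Dense ((compl I : Y.Opens) : Set Y)) : Surjective b := by
  have := Groth.Agent.Flat2C.BlowProper.isProper_of_isBlowUp hb hI
  have hcl : IsClosed (Set.range b) := b.isClosedMap.isClosed_range
  refine ⟨fun y => ?_⟩
  have h1 : ((compl I : Y.Opens) : Set Y) ⊆ Set.range b := by
    intro z hz
    obtain ⟨r, hr, h⟩ := Groth.Agent.Ega2.BlowBasic.exists_isIso_offSupport hb
    have hz' : z ∈ Groth.Agent.Ega2.BlowBasic.offSupport I := hz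
    obtain ⟨w, hw⟩ := r.surjective ⟨z, hz'⟩
    refine ⟨(Groth.Agent.Ega2.BlowBasic.offSupport (I.comap b)).ι w, ?_⟩
    rw [← Scheme.Hom.comp_apply, ← h, Scheme.Hom.comp_apply, hw]
    rfl
  have h2 : closure ((compl I : Y.Opens) : Set Y) ⊆ Set.range b := closure_minimal h1 hcl
  rw [hd.closure_eq] at h2
  exact h2 (Set.mem_univ y)

/-- The strict transform of a universally S-subtrusive morphism is surjective. -/
theorem surjective_strictTransform {X Y Y' X' : Scheme.{u}} {f : X ⟶ Y} {b : Y' ⟶ Y}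
    {I : Y.IdealSheafData} (hb : BlowUp.IsBlowUp b I) (hI : BlowUp.IsFiniteTypeIdeal I)
    {p₁ : X' ⟶ X} {p₂ : X' ⟶ Y'} (h : IsPullback p₁ p₂ f b) (hf : IsSSubtrusive p₂)
    {J : X'.IdealSheafData} (hJ : IsKilledIdeal ((I.comap f).comap p₁) J) :
    Surjective (J.subschemeι ≫ p₂) := by
  have hft : BlowUp.IsFiniteTypeIdeal ((I.comap f).comap p₁) :=
    isFiniteTypeIdeal_comap (isFiniteTypeIdeal_comap hI f) p₁
  have hJ' := hJ.eq_killedIdeal hft
  have hc : ((compl ((I.comap f).comap p₁) : X'.Opens) : Set X') =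
      p₂ ⁻¹' ((compl (I.comap b) : Y'.Opens) : Set Y') := by
    rw [← Scheme.IdealSheafData.comap_comp, h.w, Scheme.IdealSheafData.comap_comp,
      compl_comap]
    rfl
  have hr : Set.range J.subschemeι = closure (p₂ ⁻¹' ((compl (I.comap b) : Y'.Opens) : Set Y')) := by
    rw [Scheme.IdealSheafData.range_subschemeι, hJ', coe_support_killedIdeal hft, hc]
  have h1 := Pro.image_closure_preimage_eq_univ p₂ hf ((compl (I.comap b) : Y'.Opens) : Set Y')
    (fun y hy => mem_compl_of_isMax hb.1 hy)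
  rw [← hr] at h1
  refine ⟨fun y => ?_⟩
  obtain ⟨_, ⟨z, rfl⟩, hz⟩ := h1.superset (Set.mem_univ y)
  exact ⟨z, by rw [Scheme.Hom.comp_apply]; exact hz⟩

/-- Flattening over a reduced quasi-compact and quasi-separated scheme with quasi-compact set of maximal
points. -/
theorem exists_blowUp {X Y : Scheme.{u}} [IsReduced Y] [CompactSpace Y]
    [QuasiSeparatedSpace Y] (hgen : IsCompact {y : Y | IsMaxPt y})
    (f : X ⟶ Y) [LocallyOfFinitePresentation f] [QuasiCompact f] [QuasiSeparated f] :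
    ∃ (U : Y.Opens) (𝓘 : Y.IdealSheafData) (Y' : Scheme.{u}) (b : Y' ⟶ Y),
      (∀ y, IsMaxPt y → y ∈ U) ∧ Dense (U : Set Y) ∧ IsCompact (U : Set Y) ∧
      BlowUp.IsBlowUp b 𝓘 ∧ BlowUp.IsAdmissibleFor U 𝓘 ∧
      Surjective b ∧ IsProper b ∧
      ∀ (X' : Scheme.{u}) (p₁ : X' ⟶ X) (p₂ : X' ⟶ Y'), IsPullback p₁ p₂ f b →
      ∀ (𝒥 : X'.IdealSheafData), IsKilledIdeal ((𝓘.comap f).comap p₁) 𝒥 →
        Flat (𝒥.subschemeι ≫ p₂) ∧
          LocallyOfFinitePresentation (𝒥.subschemeι ≫ p₂) ∧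
          QuasiCompact (𝒥.subschemeι ≫ p₂) ∧ QuasiSeparated (𝒥.subschemeι ≫ p₂) := by
  obtain ⟨U, hU1, hU2, hU3⟩ := exists_dense_open_flat hgen f
  obtain ⟨𝓘, Y', b, hb, hadm, H⟩ := Groth.Agent.S1273.result f U hU2
  have hUc : (U : Set Y) ⊆ ((compl 𝓘 : Y.Opens) : Set Y) := fun y hy hy' =>
    Set.disjoint_left.mp hadm.2 hy' hy
  have hd : Dense (U : Set Y) := dense_of_max hU1
  refine ⟨U, 𝓘, Y', b, hU1, hd, hU2, hb, hadm,
    surjective_of_isBlowUp hb hadm.1 (hd.mono hUc),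
    Groth.Agent.Flat2C.BlowProper.isProper_of_isBlowUp hb hadm.1, ?_⟩
  intro X' p₁ p₂ h 𝒥 h𝒥
  exact H X' p₁ p₂ h 𝒥 h𝒥

end K835.Flatten
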