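import Groth.Prelude.Def_W4c2submetdescSubtr
import Mathlib.AlgebraicGeometry.Morphisms.UniversallyOpen
import Mathlib.AlgebraicGeometry.Morphisms.UniversallyClosed
import Mathlib.AlgebraicGeometry.Morphisms.Flat
import Mathlib.AlgebraicGeometry.PullbackCarrier
import Mathlib.AlgebraicGeometry.Fiber
import Mathlib.AlgebraicGeometry.Noetherian
import Groth.Agent.Fdesc.QuasiCompactTop

/-!
# Basic properties of S-subtrusive morphisms
-/

set_option autoImplicit false
universe u
open CategoryTheory CategoryTheory.Limits AlgebraicGeometry MorphismProperty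

namespace K835.Basic

open Subtr

section NonUniv

variable {X Y Z : Scheme.{u}}

theorem IsSS.surjective {f : X ⟶ Y} (hf : IsSSubtrusive f) : Surjective f :=
  ⟨fun y => by
    obtain ⟨x, -, -, hx, -⟩ := hf (specializes_refl y)
    exact ⟨x, hx⟩⟩

theorem IsSS.comp {f : X ⟶ Y} {g : Y ⟶ Z} (hf : IsSSubtrusive f) (hg : IsSSubtrusive g) :
    IsSSubtrusive (f ≫ g) := by
  intro z z' h
  obtain ⟨y, y', hy, rfl, rfl⟩ := hg h
  obtain ⟨x, x', hx, rfl, rfl⟩ := hf hy
  exact ⟨x, x', hx, by simp, by simp⟩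

/-- Cancellation: if `f ≫ g` is S-subtrusive then so is `g`. -/
theorem IsSS.of_comp {f : X ⟶ Y} {g : Y ⟶ Z} (hfg : IsSSubtrusive (f ≫ g)) : IsSSubtrusive g := by
  intro z z' h
  obtain ⟨x, x', hx, hz, hz'⟩ := hfg h
  exact ⟨f x, f x', hx.map f.continuous, by simpa using hz, by simpa using hz'⟩

theorem IsSS.of_generalizing {f : X ⟶ Y} (hf : GeneralizingMap f) [Surjective f] :
    IsSSubtrusive f := by
  intro y y' h
  obtain ⟨x, rfl⟩ := f.surjective y
  obtain ⟨x', hx', rfl⟩ := hf h
  exact ⟨x, x', hx', rfl, rfl⟩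

theorem IsSS.of_specializing {f : X ⟶ Y} (hf : SpecializingMap f) [Surjective f] :
    IsSSubtrusive f := by
  intro y y' h
  obtain ⟨x', rfl⟩ := f.surjective y'
  obtain ⟨x, hx, rfl⟩ := hf h
  exact ⟨x, x', hx, rfl, rfl⟩

theorem IsSS.of_isIso (f : X ⟶ Y) [IsIso f] : IsSSubtrusive f :=
  IsSS.of_generalizing f.isOpenEmbedding.generalizingMap

end NonUniv

/-- the property as a morphism property -/
abbrev SS : MorphismProperty Scheme.{u} := fun _ _ f => IsSSubtrusive f

instance : SS.{u}.RespectsIso :=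
  MorphismProperty.RespectsIso.mk _
    (fun e _ hf => IsSS.comp (IsSS.of_isIso e.hom) hf)
    (fun e _ hf => IsSS.comp hf (IsSS.of_isIso e.hom))

instance : UnivSSubtrusive.{u}.IsStableUnderBaseChange :=
  inferInstanceAs (SS.{u}.universally.IsStableUnderBaseChange)

instance : UnivSSubtrusive.{u}.RespectsIso :=
  inferInstanceAs (SS.{u}.universally.RespectsIso)

section Univ

variable {X Y Z : Scheme.{u}}

theorem isSS {f : X ⟶ Y} (hf : UnivSSubtrusive f) : IsSSubtrusive f :=
  MorphismProperty.universally_le SS _ hf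

theorem surjective {f : X ⟶ Y} (hf : UnivSSubtrusive f) : Surjective f :=
  IsSS.surjective (isSS hf)

/-- base change, in the form of a pullback square. -/
theorem of_isPullback {X' Y' : Scheme.{u}} {k : X' ⟶ X} {f' : X' ⟶ Y'} {f : X ⟶ Y} {j : Y' ⟶ Y}
    (h : IsPullback k f' f j) (hf : UnivSSubtrusive f) : UnivSSubtrusive f' :=
  MorphismProperty.of_isPullback h hf

theorem iff_isPullback {f : X ⟶ Y} :
    UnivSSubtrusive f ↔ ∀ (X' Y' : Scheme.{u}) (k : X' ⟶ X) (j : Y' ⟶ Y) (f' : X' ⟶ Y'),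
      IsPullback k f' f j → IsSSubtrusive f' :=
  ⟨fun hf _ _ _ _ _ h => hf _ _ _ h.flip, fun hf _ _ _ _ _ h => hf _ _ _ _ _ h.flip⟩

theorem iff_pullback_snd {f : X ⟶ Y} :
    UnivSSubtrusive f ↔ ∀ (T : Scheme.{u}) (t : T ⟶ Y), IsSSubtrusive (pullback.snd f t) := by
  constructor
  · intro hf T t
    exact isSS (of_isPullback (IsPullback.of_hasPullback f t) hf)
  · rw [iff_isPullback]
    intro hf X' Y' k j f' h
    have e : (h.isoPullback).hom ≫ pullback.snd f j = f' := h.isoPullback_hom_snd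
    rw [← e]
    exact IsSS.comp (IsSS.of_isIso _) (hf _ _)

theorem of_isIso (f : X ⟶ Y) [IsIso f] : UnivSSubtrusive f := by
  rw [iff_isPullback]
  intro X' Y' k j f' h
  have : IsIso f' := MorphismProperty.of_isPullback (P := isomorphisms Scheme) h
    (isomorphisms.infer_property f)
  exact IsSS.of_isIso f'

theorem comp {f : X ⟶ Y} {g : Y ⟶ Z} (hf : UnivSSubtrusive f) (hg : UnivSSubtrusive g) :
    UnivSSubtrusive (f ≫ g) := by
  rw [iff_pullback_snd]
  intro T t
  have h1 := of_isPullback (IsPullback.of_hasPullback g t) hg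
  have h2 : UnivSSubtrusive (pullback.snd f (pullback.fst g t)) :=
    of_isPullback (IsPullback.of_hasPullback f (pullback.fst g t)) hf
  have h3 : IsPullback (pullback.fst f (pullback.fst g t))
      (pullback.snd f (pullback.fst g t) ≫ pullback.snd g t) (f ≫ g) t :=
    (IsPullback.of_hasPullback f (pullback.fst g t)).paste_vert
      (IsPullback.of_hasPullback g t)
  have e : h3.isoPullback.inv ≫ (pullback.snd f (pullback.fst g t) ≫ pullback.snd g t) =
      pullback.snd (f ≫ g) t := h3.isoPullback_inv_snd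
  rw [← e]
  exact IsSS.comp (IsSS.of_isIso _) (IsSS.comp (isSS h2) (isSS h1))

instance : UnivSSubtrusive.{u}.IsStableUnderComposition where
  comp_mem _ _ hf hg := comp hf hg

instance : UnivSSubtrusive.{u}.IsMultiplicative where
  id_mem X := of_isIso (𝟙 X)

/-- Cancellation: if `f ≫ g` is universally S-subtrusive then so is `g`. -/
theorem of_comp (f : X ⟶ Y) {g : Y ⟶ Z} (hfg : UnivSSubtrusive (f ≫ g)) : UnivSSubtrusive g := by
  rw [iff_pullback_snd]
  intro T t
  have h2 : UnivSSubtrusive (pullback.snd (f ≫ g) t) :=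
    of_isPullback (IsPullback.of_hasPullback (f ≫ g) t) hfg
  have e : pullback.lift (pullback.fst (f ≫ g) t ≫ f) (pullback.snd (f ≫ g) t)
      (by rw [Category.assoc, pullback.condition]) ≫ pullback.snd g t = pullback.snd (f ≫ g) t :=
    pullback.lift_snd _ _ _
  rw [← e] at h2
  exact IsSS.of_comp (isSS h2)

/-- a morphism refined by a universally S-subtrusive one is universally S-subtrusive -/
theorem of_factor {h : X ⟶ Y} {f : Y ⟶ Z} {g : X ⟶ Z} (e : h ≫ f = g) (hg : UnivSSubtrusive g) :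
    UnivSSubtrusive f := of_comp h (e ▸ hg)

theorem of_universallyClosed (f : X ⟶ Y) [UniversallyClosed f] [Surjective f] :
    UnivSSubtrusive f := by
  rw [iff_isPullback]
  intro X' Y' k j f' h
  have : UniversallyClosed f' := MorphismProperty.of_isPullback h ‹_›
  have : Surjective f' := MorphismProperty.of_isPullback h ‹_›
  exact IsSS.of_specializing f'.isClosedMap.specializingMap

/-- An open morphism of schemes lifts generizations. -/
theorem generalizingMap_of_isOpenMap (f : X ⟶ Y) (hf : IsOpenMap f) : GeneralizingMap f := by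
  intro x y hy
  have hqc : QuasiCompact (f.fiberι y) :=
    inferInstanceAs (QuasiCompact (pullback.fst f (Y.fromSpecResidueField y)))
  have hx : x ∈ closure (Set.range (f.fiberι y)) := by
    rw [mem_closure_iff]
    intro W hW hxW
    obtain ⟨w, hw, hwy⟩ := hy.mem_open (hf W hW) ⟨x, hxW, rfl⟩
    refine ⟨w, hw, ?_⟩
    rw [Scheme.Hom.range_fiberι]
    exact hwy
  obtain ⟨z, hz⟩ :=
    Groth.Agent.Fdesc.QuasiCompactTop.exists_specializes_of_mem_closure_range _ x hx
  refine ⟨f.fiberι y z, hz, ?_⟩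
  have : f.fiberι y z ∈ Set.range (f.fiberι y) := ⟨z, rfl⟩
  rw [Scheme.Hom.range_fiberι] at this
  exact this

theorem of_universallyOpen (f : X ⟶ Y) [UniversallyOpen f] [Surjective f] :
    UnivSSubtrusive f := by
  rw [iff_isPullback]
  intro X' Y' k j f' h
  have : UniversallyOpen f' := MorphismProperty.of_isPullback h ‹_›
  have : Surjective f' := MorphismProperty.of_isPullback h ‹_›
  exact IsSS.of_generalizing (generalizingMap_of_isOpenMap f' f'.isOpenMap)

theorem of_flat (f : X ⟶ Y) [Flat f] [Surjective f] :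
    UnivSSubtrusive f := by
  rw [iff_isPullback]
  intro X' Y' k j f' h
  have : Flat f' := MorphismProperty.of_isPullback h ‹_›
  have : Surjective f' := MorphismProperty.of_isPullback h ‹_›
  exact IsSS.of_generalizing (Flat.generalizingMap f')

/-- `IsSSubtrusive` is Zariski local on the target (one direction). -/
theorem IsSS.of_openCover (f : X ⟶ Y) (𝒰 : Y.OpenCover)
    (h : ∀ i, IsSSubtrusive (pullback.snd f (𝒰.f i))) : IsSSubtrusive f := by
  intro y y' hy
  obtain ⟨i, u, rfl⟩ := 𝒰.exists_eq y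
  have hmem : y' ∈ Set.range (𝒰.f i) := hy.mem_open (𝒰.f i).isOpenEmbedding.isOpen_range ⟨u, rfl⟩
  obtain ⟨u', rfl⟩ := hmem
  have hu : u' ⤳ u := (𝒰.f i).isOpenEmbedding.isInducing.specializes_iff.mp hy
  obtain ⟨x, x', hx, hxu, hxu'⟩ := h i hu
  refine ⟨pullback.fst f (𝒰.f i) x, pullback.fst f (𝒰.f i) x',
    hx.map (pullback.fst f (𝒰.f i)).continuous, ?_, ?_⟩
  · rw [← Scheme.Hom.comp_apply, pullback.condition, Scheme.Hom.comp_apply, hxu]
  · rw [← Scheme.Hom.comp_apply, pullback.condition, Scheme.Hom.comp_apply, hxu']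

instance : IsZariskiLocalAtTarget UnivSSubtrusive.{u} := by
  refine universally_isZariskiLocalAtTarget SS.{u} fun {X Y} f ι U hU h y y' hy => ?_
  obtain ⟨i, hi⟩ := hU.exists_mem y
  have hi' : y' ∈ U i := hy.mem_open (U i).2 hi
  have hyy : (⟨y', hi'⟩ : U i) ⤳ ⟨y, hi⟩ := Topology.IsInducing.subtypeVal.specializes_iff.mp hy
  obtain ⟨x, x', hx, hxu, hxu'⟩ := h i hyy
  refine ⟨(f ⁻¹ᵁ U i).ι x, (f ⁻¹ᵁ U i).ι x', hx.map (f ⁻¹ᵁ U i).ι.continuous, ?_, ?_⟩
  · rw [← Scheme.Hom.comp_apply, ← morphismRestrict_ι, Scheme.Hom.comp_apply, hxu]; rfl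
  · rw [← Scheme.Hom.comp_apply, ← morphismRestrict_ι, Scheme.Hom.comp_apply, hxu']; rfl

/-- `UnivSSubtrusive` is Zariski local on the target. -/
theorem of_openCover (f : X ⟶ Y) (𝒰 : Y.OpenCover)
    (h : ∀ i, UnivSSubtrusive (pullback.snd f (𝒰.f i))) : UnivSSubtrusive f :=
  IsZariskiLocalAtTarget.of_openCover 𝒰 h

/-- A surjective morphism that is a local isomorphism is universally S-subtrusive. -/
theorem of_localIso (f : X ⟶ Y) [Surjective f]
    (h : ∀ x : X, ∃ U : X.Opens, x ∈ U ∧ IsOpenImmersion (U.ι ≫ f)) : UnivSSubtrusive f := by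
  have : UniversallyOpen f := by
    have hU : ∀ x : X, ∃ U : X.Opens, x ∈ U ∧ UniversallyOpen (U.ι ≫ f) := by
      intro x
      obtain ⟨U, hU, h1⟩ := h x
      exact ⟨U, hU, inferInstance⟩
    choose U hxU hUo using hU
    exact (IsZariskiLocalAtSource.iff_of_iSup_eq_top (P := @UniversallyOpen) U (by
      rw [eq_top_iff]; intro x _
      exact TopologicalSpace.Opens.mem_iSup.mpr ⟨x, hxU x⟩)).mpr hUo
  exact of_universallyOpen f

end Univ

end K835.Basic
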