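import Groth.Agent.Subtr.K835.Basic
import Groth.Agent.Ega4fib.H119.ProIndScheme
import Groth.Prelude.Def_ProCons

/-!
# Closures of pro-constructible subsets, and the description of S-subtrusive morphisms
-/

set_option autoImplicit false
universe u
open CategoryTheory CategoryTheory.Limits AlgebraicGeometry MorphismProperty ProCons

namespace K835.Pro

open Subtr Groth.Agent.Ega4fib.H119.ProInd Groth.Agent.Ega4fib.H119.ProIndScheme

variable {X Y : Scheme.{u}}

/-- A point in the closure of a pro-constructible set is a specialization of a point of the set. -/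
theorem exists_specializes_of_mem_closure {Z : Set X} (hZ : IsProConstructible Z) {x : X}
    (hx : x ∈ closure Z) : ∃ z ∈ Z, z ⤳ x := by
  obtain ⟨V, hV, hxV, -⟩ := exists_isAffineOpen_mem_and_subset (x := x) (U := ⊤) trivial
  have hV' : IsAffine V := hV
  obtain ⟨B, g, hg⟩ := exists_affine_range_of_isAffine
    (isPro_preimage_of_isOpenEmbedding V.ι.isOpenEmbedding hZ)
  have hx' : (⟨x, hxV⟩ : V) ∈ closure (Set.range g) := by
    rw [hg]
    have h1 := V.ι.isOpenEmbedding.isOpenMap.preimage_closure_eq_closure_preimage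
      V.ι.continuous Z
    have h2 : (⟨x, hxV⟩ : V) ∈ V.ι ⁻¹' closure Z := hx
    rw [h1] at h2
    exact h2
  obtain ⟨b, hb⟩ :=
    Groth.Agent.Fdesc.QuasiCompactTop.exists_specializes_of_mem_closure_range g _ hx'
  have hbZ : g b ∈ V.ι ⁻¹' Z := by rw [← hg]; exact ⟨b, rfl⟩
  exact ⟨V.ι (g b), hbZ, hb.map V.ι.continuous⟩

theorem isPro_singleton (x : X) : IsProConstructible ({x} : Set X) := by
  have h : IsProConstructible (Set.range (X.fromSpecResidueField x)) := isPro_range _
  rwa [Scheme.range_fromSpecResidueField] at h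

theorem isPro_fiber (f : X ⟶ Y) (y : Y) : IsProConstructible (f ⁻¹' {y}) :=
  isPro_preimage f (isPro_singleton y)

/-- (i) ⇔ (iv) -/
theorem isSSubtrusive_iff (f : X ⟶ Y) :
    IsSSubtrusive f ↔
      ∀ Z : Set Y, IsProConstructible Z → f '' closure (f ⁻¹' Z) = closure Z := by
  constructor
  · intro hf Z hZ
    apply subset_antisymm
    · rintro _ ⟨x, hx, rfl⟩
      exact f.continuous.closure_preimage_subset _ hx
    · intro y hy
      obtain ⟨y', hy', hyy⟩ := exists_specializes_of_mem_closure hZ hy
      obtain ⟨x, x', hx, rfl, rfl⟩ := hf hyy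
      exact ⟨x, closure_mono (Set.singleton_subset_iff.mpr (show x' ∈ f ⁻¹' Z from hy'))
        (specializes_iff_mem_closure.mp hx), rfl⟩
  · intro h y y' hy
    have h1 := h {y'} (isPro_singleton y')
    have h2 : y ∈ f '' closure (f ⁻¹' {y'}) := by
      rw [h1]; exact specializes_iff_mem_closure.mp hy
    obtain ⟨x, hx, rfl⟩ := h2
    obtain ⟨x', hx', hxx⟩ := exists_specializes_of_mem_closure (isPro_fiber f y') hx
    exact ⟨x, x', hxx, rfl, hx'⟩

/-- every point of a scheme has a maximal generization -/
theorem exists_maximal (y : Y) : ∃ y' : Y, y' ⤳ y ∧ ∀ y'' : Y, y'' ⤳ y' → y'' = y' := by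
  let T : Set Y := irreducibleComponent y
  have hTi : IsIrreducible T := isIrreducible_irreducibleComponent
  have hTc : IsClosed T := isClosed_irreducibleComponent
  let g := hTi.genericPoint
  have hg : closure {g} = T := by
    have := hTi.isGenericPoint_genericPoint_closure
    rw [hTc.closure_eq] at this
    exact this
  refine ⟨g, ?_, ?_⟩
  · rw [specializes_iff_mem_closure, hg]
    exact mem_irreducibleComponent
  · intro z hz
    have h2 : T ⊆ closure {z} := by
      rw [← hg]
      exact closure_minimal (Set.singleton_subset_iff.mpr (specializes_iff_mem_closure.mp hz))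
        isClosed_closure
    have h3 : closure {z} ⊆ T :=
      (irreducibleComponent_mem_irreducibleComponents y).2 isIrreducible_singleton.closure h2
    have h4 : g ⤳ z := by
      rw [specializes_iff_mem_closure, hg]
      exact h3 (subset_closure rfl)
    exact (hz.antisymm h4).eq

theorem image_closure_preimage_eq_univ (f : X ⟶ Y)
    (hf : IsSSubtrusive f) (U : Set Y) (hU : ∀ y : Y, (∀ y' : Y, y' ⤳ y → y' = y) → y ∈ U) :
    f '' closure (f ⁻¹' U) = Set.univ := by
  rw [Set.eq_univ_iff_forall]
  intro y
  obtain ⟨y', hy', hmax⟩ := exists_maximal y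
  obtain ⟨x, x', hx, rfl, rfl⟩ := hf hy'
  exact ⟨x, closure_mono (Set.singleton_subset_iff.mpr (show x' ∈ f ⁻¹' U from hU _ hmax))
    (specializes_iff_mem_closure.mp hx), rfl⟩

end K835.Pro
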