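import Groth.Agent.CalgA.LimFP2
import Groth.Agent.Ega43.LimSurj
import Groth.Agent.Ega43.LimitDescendClosed
import Groth.Agent.Smoothlim.FlatDescend
import Groth.Agent.Smoothlim.ProperDescend
import Groth.Agent.S2079
import Groth.Agent.S7382

/-!
# Descent of refinements to a stage of a cofiltered limit

`Good Y 𝓡`: a predicate on morphisms `E ⟶ Y` stable under precomposition, and which passes from a
cofiltered limit to a stage.
-/

set_option autoImplicit false
universe u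
open CategoryTheory CategoryTheory.Limits AlgebraicGeometry

namespace K835.Stage

open Groth.Agent.Ega43.LimDesc (Descends)
open Groth.Agent.CalgA.LimFP
open Groth.Agent.Smoothlim.LimBase (DescendsAffine)

theorem descends_of_descendsAffine {P Q : MorphismProperty Scheme.{u}}
    [P.IsStableUnderBaseChange] [IsZariskiLocalAtTarget P] [Q.IsStableUnderBaseChange]
    (hQ : ∀ {X Y : Scheme.{u}} (f : X ⟶ Y) [LocallyOfFinitePresentation f] [QuasiCompact f]
      [QuasiSeparated f], Q f)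
    (hA : DescendsAffine Q P) : Descends P := by
  intro I _ _ D c hc _ _ _ i₀ X₀ f₀ _ _ _ X q f h hf
  obtain ⟨i, φ, hi⟩ := Groth.Agent.Smoothlim.LimBase.exists_descend hA D c hc i₀ f₀ (𝟙 _) f (𝟙 _)
    (c.π.app i₀) q IsPullback.of_id_snd h (hQ f₀) hf
  refine ⟨i, φ, _, pullback.fst f₀ (pullback.fst (𝟙 _) (D.map φ)),
    pullback.snd f₀ (pullback.fst (𝟙 _) (D.map φ)) ≫ pullback.snd (𝟙 _) (D.map φ), ?_, ?_⟩
  · have h1 := (IsPullback.of_hasPullback f₀ (pullback.fst (𝟙 (D.obj i₀)) (D.map φ))).paste_vert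
      (IsPullback.of_hasPullback (𝟙 _) (D.map φ))
    rwa [Category.comp_id] at h1
  · exact (P.cancel_right_of_respectsIso _ _).mpr hi

theorem descends_flat : Descends @Flat.{u} :=
  descends_of_descendsAffine (Q := @LocallyOfFinitePresentation ⊓ @QuasiCompact)
    (fun _ _ _ => ⟨inferInstance, inferInstance⟩)
    Groth.Agent.Smoothlim.LimBase.descendsAffine_flat

theorem descends_isProper : Descends @IsProper.{u} :=
  descends_of_descendsAffine (Q := Groth.Agent.Smoothlim.LimBase.FTQS)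
    (fun _ _ _ => ⟨⟨inferInstance, inferInstance⟩, inferInstance⟩)
    Groth.Agent.Smoothlim.LimBase.descendsAffine_isProper

section Model

variable {I : Type u} [SmallCategory I] [IsCofiltered I] {D : I ⥤ Scheme.{u}} {c : Cone D}
  (hc : IsLimit c) [hDa : ∀ (i j : I) (f : i ⟶ j), IsAffineHom (D.map f)]
  [∀ i, CompactSpace (D.obj i)] [∀ i, QuasiSeparatedSpace (D.obj i)]

include hc hDa in
/-- A model acquires at some later stage a property which descends along limits. -/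
theorem exists_up {P : MorphismProperty Scheme.{u}} [P.RespectsIso] (hP : Descends P)
    {A' : Scheme.{u}} {f' : A' ⟶ c.pt} (hf' : P f') {i : I} (M : Mdl f' i) :
    ∃ (j : I) (a : j ⟶ i), P (M.bc a).f := by
  have := M.lfp
  have := M.qc
  have := M.qs
  obtain ⟨j, a, Xj, p, fj, hpb, hfj⟩ := hP D c hc i M.f M.p f' M.h hf'
  refine ⟨j, a, ?_⟩
  have e : (M.bc a).f =
      ((IsPullback.of_hasPullback M.f (D.map a)).isoIsPullback _ _ hpb).hom ≫ fj := by
    rw [IsPullback.isoIsPullback_hom_snd]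
    rfl
  rw [e]
  exact (P.cancel_left_of_respectsIso _ _).2 hfj

omit [IsCofiltered I] hDa [∀ i, CompactSpace (D.obj i)] [∀ i, QuasiSeparatedSpace (D.obj i)] in
/-- a property stable under base change passes to later stages -/
theorem bc_prop {P : MorphismProperty Scheme.{u}} [P.IsStableUnderBaseChange]
    {A' : Scheme.{u}} {f' : A' ⟶ c.pt} {i : I} (M : Mdl f' i) (h : P M.f) {j : I} (a : j ⟶ i) :
    P (M.bc a).f :=
  P.pullback_snd _ _ h

include hc hDa in
/-- A model over a given stage. -/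
theorem exists_model_over {A' : Scheme.{u}} (f' : A' ⟶ c.pt) [LocallyOfFinitePresentation f']
    [QuasiCompact f'] [QuasiSeparated f'] (i₀ : I) :
    ∃ (i : I) (_ : i ⟶ i₀), Nonempty (Mdl f' i) := by
  obtain ⟨j, ⟨M⟩⟩ := Mdl.exists_model hc f'
  obtain ⟨k, a, b, -⟩ := IsCofilteredOrEmpty.cone_objs j i₀
  exact ⟨k, b, ⟨M.bc a⟩⟩

end Model

section Plain

theorem proper_limit {X S : Scheme.{u}} (f : X ⟶ S) [IsProper f] [CompactSpace S]
    [QuasiSeparatedSpace S] :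
    ∃ (I : Type u) (_ : SmallCategory I) (_ : IsCofiltered I) (D : I ⥤ Scheme.{u}) (c : Cone D)
      (_ : IsLimit c) (t : ∀ i, D.obj i ⟶ S) (iso : c.pt ≅ X),
      (∀ (i j : I) (a : i ⟶ j), IsAffineHom (D.map a)) ∧
      (∀ (i j : I) (a : i ⟶ j), D.map a ≫ t j = t i) ∧
      (∀ i, c.π.app i ≫ t i = iso.hom ≫ f) ∧
      ∀ i, IsProper (t i) ∧ LocallyOfFinitePresentation (t i) := by
  obtain ⟨I, _, _, D, c, hc, iso, hD, hD'⟩ := Groth.Agent.S2079.result f
  refine ⟨I, inferInstance, inferInstance, D ⋙ Over.forget S, (Over.forget S).mapCone c,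
    isLimitOfPreserves _ hc, fun i => (D.obj i).hom, (Over.forget S).mapIso iso, ?_, ?_, ?_, ?_⟩
  · intro i j a
    have := hD i j a
    exact inferInstanceAs (IsAffineHom (D.map a).left)
  · intro i j a
    exact Over.w (D.map a)
  · intro i
    exact (Over.w (c.π.app i)).trans (Over.w iso.hom).symm
  · intro i
    exact ⟨(hD' i).2.1, (hD' i).2.2⟩

theorem isAffineHom_of_comp_finite {X Y Z : Scheme.{u}} (f : X ⟶ Y) (g : Y ⟶ Z)
    (h : IsFinite (f ≫ g)) (hg : IsFinite g) : IsAffineHom f := by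
  have : IsAffineHom (f ≫ g) := inferInstance
  exact IsAffineHom.of_comp f g

theorem integral_limit {X S : Scheme.{u}} (f : X ⟶ S) [IsIntegralHom f] [CompactSpace S]
    [QuasiSeparatedSpace S] :
    ∃ (I : Type u) (_ : SmallCategory I) (_ : IsCofiltered I) (D : I ⥤ Scheme.{u}) (c : Cone D)
      (_ : IsLimit c) (t : ∀ i, D.obj i ⟶ S) (iso : c.pt ≅ X),
      (∀ (i j : I) (a : i ⟶ j), IsAffineHom (D.map a)) ∧
      (∀ (i j : I) (a : i ⟶ j), D.map a ≫ t j = t i) ∧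
      (∀ i, c.π.app i ≫ t i = iso.hom ≫ f) ∧
      ∀ i, IsFinite (t i) ∧ LocallyOfFinitePresentation (t i) := by
  obtain ⟨J, _, _, _, D, c, hc, hD, ⟨iso⟩⟩ := Groth.Agent.S7382.result f
  refine ⟨Jᵒᵖ, inferInstance, inferInstance, D ⋙ Over.forget S, (Over.forget S).mapCone c,
    isLimitOfPreserves _ hc, fun i => (D.obj i).hom, (Over.forget S).mapIso iso, ?_, ?_, ?_, ?_⟩
  · intro i j a
    exact isAffineHom_of_comp_finite (D.map a).left (D.obj j).hom
      ((Over.w (D.map a)).symm ▸ (hD i).1) (hD j).1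
  · intro i j a
    exact Over.w (D.map a)
  · intro i
    exact (Over.w (c.π.app i)).trans (Over.w iso.hom).symm
  · intro i
    exact hD i

end Plain

/-- Predicates on morphisms with target `Y` which pass to a stage of a limit. -/
structure Good (Y : Scheme.{u}) (𝓡 : ∀ {E : Scheme.{u}}, (E ⟶ Y) → Prop) : Prop where
  comp : ∀ {E E' : Scheme.{u}} (k : E' ⟶ E) (e : E ⟶ Y), 𝓡 e → 𝓡 (k ≫ e)
  stage : ∀ {I : Type u} [SmallCategory I] [IsCofiltered I] (D : I ⥤ Scheme.{u}) (c : Cone D)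
    (_ : IsLimit c) [∀ (i j : I) (f : i ⟶ j), IsAffineHom (D.map f)]
    [∀ i, CompactSpace (D.obj i)] [∀ i, QuasiSeparatedSpace (D.obj i)]
    (i₀ : I) (e₀ : D.obj i₀ ⟶ Y), 𝓡 (c.π.app i₀ ≫ e₀) →
      ∃ (i : I) (φ : i ⟶ i₀), 𝓡 (D.map φ ≫ e₀)

section Generic

variable {Y : Scheme.{u}} {𝓡 : ∀ {E : Scheme.{u}}, (E ⟶ Y) → Prop} (h𝓡 : Good Y 𝓡)

section

variable {I : Type u} [SmallCategory I] [IsCofiltered I] {D : I ⥤ Scheme.{u}} {c : Cone D}
  (hc : IsLimit c) [hDa : ∀ (i j : I) (f : i ⟶ j), IsAffineHom (D.map f)]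
  [∀ i, CompactSpace (D.obj i)] [∀ i, QuasiSeparatedSpace (D.obj i)]

set_option backward.isDefEq.respectTransparency false in
omit [IsCofiltered I] hDa [∀ i, CompactSpace (D.obj i)] [∀ i, QuasiSeparatedSpace (D.obj i)] in
theorem cone_aux {Z : Scheme.{u}} {q : Z ⟶ c.pt} {i i₀ : I} (M : Mdl q i) (a : i ⟶ i₀)
    (e₀ : D.obj i₀ ⟶ Y) :
    (bcCone M.h).π.app (Over.mk (𝟙 i)) ≫
      (pullback.fst M.f (D.map (𝟙 i)) ≫ M.f ≫ D.map a ≫ e₀) = q ≫ c.π.app i₀ ≫ e₀ := by
  have h1 : (bcCone M.h).π.app (Over.mk (𝟙 i)) ≫ pullback.fst M.f (D.map (𝟙 i)) = M.p := by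
    simp only [bcCone_π_app, Over.mk_hom]
    exact pullback.lift_fst _ _ _
  rw [← Category.assoc, h1, ← Category.assoc, M.h.w, Category.assoc, c.w_assoc]

set_option backward.isDefEq.respectTransparency false in
omit [IsCofiltered I] hDa [∀ i, CompactSpace (D.obj i)] [∀ i, QuasiSeparatedSpace (D.obj i)] in
theorem map_aux {Z : Scheme.{u}} {q : Z ⟶ c.pt} {i i₀ : I} (M : Mdl q i) (a : i ⟶ i₀)
    (e₀ : D.obj i₀ ⟶ Y) {ψ : Over i} (m : ψ ⟶ Over.mk (𝟙 i)) :
    (bcDiagram D M.f).map m ≫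
      (pullback.fst M.f (D.map (𝟙 i)) ≫ M.f ≫ D.map a ≫ e₀) =
      (M.bc ψ.hom).f ≫ D.map (ψ.hom ≫ a) ≫ e₀ := by
  have h1 : (bcDiagram D M.f).map m ≫ pullback.fst M.f (D.map (𝟙 i)) =
      pullback.fst M.f (D.map ψ.hom) := by
    simp only [bcDiagram_map, Over.mk_hom]
    exact pullback.lift_fst _ _ _
  rw [← Category.assoc, h1, ← Category.assoc, pullback.condition, Category.assoc, D.map_comp ψ.hom,
    Category.assoc]
  rfl

include h𝓡 hc hDa in
theorem exists_model {P : MorphismProperty Scheme.{u}} [P.IsStableUnderBaseChange]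
    (hP : Descends P) (i₀ : I) (e₀ : D.obj i₀ ⟶ Y) {Z : Scheme.{u}} (q : Z ⟶ c.pt)
    [LocallyOfFinitePresentation q] [QuasiCompact q] [QuasiSeparated q] (hq : P q)
    (h : 𝓡 (q ≫ c.π.app i₀ ≫ e₀)) :
    ∃ (i : I) (φ : i ⟶ i₀) (M : Mdl q i), P M.f ∧ 𝓡 (M.f ≫ D.map φ ≫ e₀) := by
  obtain ⟨i₁, φ₁, ⟨M₁⟩⟩ := exists_model_over hc q i₀
  obtain ⟨i₂, a, hM⟩ := exists_up hc hP hq M₁
  generalize hM₂ : M₁.bc a = M at hM
  have := M.lfp
  have := M.qc
  have := M.qs
  have h1 : ∀ (j k : Over i₂) (a : j ⟶ k), IsAffineHom ((bcDiagram D M.f).map a) :=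
    fun _ _ a => isAffineHom_bcDiagram_map a
  have h2 : ∀ j : Over i₂, CompactSpace ((bcDiagram D M.f).obj j) :=
    fun j => compactSpace_bcDiagram_obj j
  have h3 : ∀ j : Over i₂, QuasiSeparatedSpace ((bcDiagram D M.f).obj j) :=
    fun j => quasiSeparatedSpace_bcDiagram_obj j
  obtain ⟨ψ, m, hm⟩ := h𝓡.stage (bcDiagram D M.f) (bcCone M.h) (isLimitBcCone hc M.h)
    (Over.mk (𝟙 i₂)) (pullback.fst M.f (D.map (𝟙 i₂)) ≫ M.f ≫ D.map (a ≫ φ₁) ≫ e₀) (by
      rw [cone_aux M (a ≫ φ₁) e₀]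
      exact h)
  refine ⟨ψ.left, ψ.hom ≫ a ≫ φ₁, M.bc ψ.hom, bc_prop M hM _, ?_⟩
  rw [← map_aux M (a ≫ φ₁) e₀ m]
  exact hm

end

include h𝓡 in
/-- Replacing a proper morphism by one of finite presentation. -/
theorem exists_proper {Y' Y'' : Scheme.{u}} [CompactSpace Y'] [QuasiSeparatedSpace Y']
    (e : Y' ⟶ Y) (b : Y'' ⟶ Y') [IsProper b] (h : 𝓡 (b ≫ e)) :
    ∃ (Z : Scheme.{u}) (q : Z ⟶ Y') (k : Y'' ⟶ Z), k ≫ q = b ∧ IsProper q ∧
      LocallyOfFinitePresentation q ∧ 𝓡 (q ≫ e) := by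
  obtain ⟨I, _, _, D, c, hc, t, iso, hcl, ht, hct, hD⟩ := proper_limit b
  have h1 : ∀ i, IsProper (t i) := fun i => (hD i).1
  have h2 : ∀ i, CompactSpace (D.obj i) := fun i =>
    QuasiCompact.compactSpace_of_compactSpace (t i)
  have h3 : ∀ i, QuasiSeparatedSpace (D.obj i) := fun i =>
    quasiSeparatedSpace_of_quasiSeparated (t i)
  obtain ⟨i₀⟩ := IsCofiltered.nonempty (C := I)
  obtain ⟨i, φ, hi⟩ := h𝓡.stage D c hc i₀ (t i₀ ≫ e) (by
      rw [← Category.assoc, hct, Category.assoc]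
      exact h𝓡.comp _ _ h)
  refine ⟨D.obj i, t i, iso.inv ≫ c.π.app i, ?_, h1 i, (hD i).2, ?_⟩
  · rw [Category.assoc, hct, Iso.inv_hom_id_assoc]
  · rwa [← Category.assoc, ht] at hi

include h𝓡 in
/-- Replacing an integral morphism by one which is finite and of finite presentation. -/
theorem exists_integral {Y' Z : Scheme.{u}} [CompactSpace Y] [QuasiSeparatedSpace Y]
    (e : Y' ⟶ Y) [IsIntegralHom e] (q : Z ⟶ Y') [IsProper q] [LocallyOfFinitePresentation q]
    (h : 𝓡 (q ≫ e)) :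
    ∃ (Z' : Scheme.{u}) (q' : Z' ⟶ Y) (k : Z ⟶ Z'), k ≫ q' = q ≫ e ∧ IsProper q' ∧
      LocallyOfFinitePresentation q' ∧ 𝓡 q' := by
  obtain ⟨I, _, _, D, c, hc, t, iso, hcl, ht, hct, hD⟩ := integral_limit e
  have h0 : ∀ i, IsFinite (t i) := fun i => (hD i).1
  have h0' : ∀ i, LocallyOfFinitePresentation (t i) := fun i => (hD i).2
  have h2 : ∀ i, CompactSpace (D.obj i) := fun i =>
    QuasiCompact.compactSpace_of_compactSpace (t i)
  have h3 : ∀ i, QuasiSeparatedSpace (D.obj i) := fun i =>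
    quasiSeparatedSpace_of_quasiSeparated (t i)
  obtain ⟨i₀⟩ := IsCofiltered.nonempty (C := I)
  have hp : IsProper (q ≫ iso.inv) := inferInstance
  have hl : LocallyOfFinitePresentation (q ≫ iso.inv) := inferInstance
  obtain ⟨i, φ, M, hM, hi⟩ := exists_model h𝓡 hc descends_isProper i₀ (t i₀) (q ≫ iso.inv) hp (by
      rw [hct, Category.assoc, Iso.inv_hom_id_assoc]
      exact h)
  have hMl := M.lfp
  have : IsProper M.f := hM
  rw [ht] at hi
  refine ⟨M.A, M.f ≫ t i, M.p, ?_, inferInstance, inferInstance, hi⟩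
  rw [← Category.assoc, M.h.w, Category.assoc, hct, Category.assoc, Iso.inv_hom_id_assoc]

include h𝓡 in
/-- **From a proper morphism followed by an integral one to a proper morphism of finite
presentation.** -/
theorem exists_proper_fp {Y' Y'' : Scheme.{u}} [CompactSpace Y] [QuasiSeparatedSpace Y]
    (e : Y' ⟶ Y) [IsIntegralHom e] (b : Y'' ⟶ Y') [IsProper b] [Surjective (b ≫ e)]
    (h : 𝓡 (b ≫ e)) :
    ∃ (Z : Scheme.{u}) (q : Z ⟶ Y), IsProper q ∧ Surjective q ∧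
      LocallyOfFinitePresentation q ∧ 𝓡 q := by
  have : CompactSpace Y' := QuasiCompact.compactSpace_of_compactSpace e
  have : QuasiSeparatedSpace Y' := quasiSeparatedSpace_of_quasiSeparated e
  obtain ⟨Z, q, k, hk, _, _, hq⟩ := exists_proper h𝓡 e b h
  obtain ⟨Z', q', k', hk', h1, h2, h3⟩ := exists_integral h𝓡 e q hq
  refine ⟨Z', q', h1, ?_, h2, h3⟩
  have h4 : Surjective ((k ≫ k') ≫ q') := by
    rw [Category.assoc, hk', ← Category.assoc, hk]
    infer_instance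
  exact Surjective.of_comp (k ≫ k') q'

end Generic

end K835.Stage
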