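import Groth.Agent.Subtr.K835.GenFlat
import Groth.Agent.Proet.Spectral
import Mathlib.AlgebraicGeometry.Morphisms.Integral
import Mathlib.RingTheory.Spectrum.Prime.Topology
import Mathlib.RingTheory.Ideal.MinimalPrime.Basic
import Mathlib.RingTheory.LocalRing.ResidueField.Ideal

/-!
# An integral surjective cover of an affine scheme by a reduced one with compact space of maximal points
-/

set_option autoImplicit false
universe u
open CategoryTheory CategoryTheory.Limits AlgebraicGeometry

namespace K835.PPRing

open K835.GenFlat Groth.Agent.Proet.Spectral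

/-- a ring whose principal ideals have idempotent supports -/
def PP (R : Type u) [CommRing R] : Prop :=
  ∀ x : R, ∃ e : R, e * e = e ∧ e * x = x ∧ ∀ y, x * y = 0 → e * y = 0

theorem isCompact_maxPts (R : Type u) [CommRing R] (h : PP R) :
    IsCompact {y : Spec (CommRingCat.of R) | IsMaxPt y} := by
  choose e he1 he2 he3 using h
  have key : {p : PrimeSpectrum R | IsMaxPt (show Spec (CommRingCat.of R) from p)} =
      ⋂ x : R, ((PrimeSpectrum.basicOpen x : Set (PrimeSpectrum R)) ∪
        (PrimeSpectrum.basicOpen (1 - e x) : Set (PrimeSpectrum R))) := by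
    ext p
    have hmem : p ∈ (⋂ x : R, ((PrimeSpectrum.basicOpen x : Set (PrimeSpectrum R)) ∪
        (PrimeSpectrum.basicOpen (1 - e x) : Set (PrimeSpectrum R)))) ↔
        ∀ x : R, x ∉ p.asIdeal ∨ (1 - e x) ∉ p.asIdeal := by
      rw [Set.mem_iInter]
      rfl
    rw [hmem]
    change IsMaxPt (show Spec (CommRingCat.of R) from p) ↔ _
    constructor
    · intro hq x
      by_contra hx
      push Not at hx
      obtain ⟨hx1, hx2⟩ := hx
      have hp : p.asIdeal ∈ minimalPrimes R := by
        refine ⟨⟨p.2, bot_le⟩, ?_⟩
        intro p' hp' hpp'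
        have h2 : (⟨p', hp'.1⟩ : PrimeSpectrum R) ⤳ p :=
          (PrimeSpectrum.le_iff_specializes _ _).mp hpp'
        have h4 := hq (show Spec (CommRingCat.of R) from (⟨p', hp'.1⟩ : PrimeSpectrum R)) h2
        have h6 : p' = p.asIdeal := congrArg PrimeSpectrum.asIdeal h4
        exact h6.ge
      have hz : x + (1 - e x) ∈ p.asIdeal := Ideal.add_mem _ hx1 hx2
      refine (Ideal.disjoint_nonZeroDivisors_of_mem_minimalPrimes hp).le_bot ⟨hz, ?_⟩
      rw [SetLike.mem_coe, mem_nonZeroDivisors_iff_right]
      intro y hy
      have h1 : x * y = 0 := by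
        have : e x * (y * (x + (1 - e x))) = 0 := by rw [hy, mul_zero]
        have h' : e x * (y * (x + (1 - e x))) = (e x * x) * y + (e x - e x * e x) * y := by ring
        rw [h', he2, he1, sub_self, zero_mul, add_zero] at this
        exact this
      have h2 : e x * y = 0 := he3 x y h1
      have h3 : y * (x + (1 - e x)) = x * y + y - e x * y := by ring
      rw [h3, h1, h2, zero_add, sub_zero] at hy
      exact hy
    · intro hq q' hq'
      let p' : PrimeSpectrum R := q'
      have hle : p' ≤ p := (PrimeSpectrum.le_iff_specializes _ _).mpr hq'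
      refine PrimeSpectrum.ext (le_antisymm hle ?_)
      intro x hx
      have h1 : e x ∈ p.asIdeal := by
        rcases hq x with h | h
        · exact absurd hx h
        · by_contra hex
          have h2 : e x * (1 - e x) ∈ p.asIdeal := by
            rw [mul_sub, mul_one, he1, sub_self]; exact zero_mem _
          rcases p.2.mem_or_mem h2 with h3 | h3
          · exact hex h3
          · exact h h3
      have h2 : 1 - e x ∉ p'.asIdeal := by
        intro h2
        have h3 : 1 - e x ∈ p.asIdeal := hle h2
        apply p.2.ne_top
        rw [Ideal.eq_top_iff_one]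
        have := Ideal.add_mem _ h1 h3
        rwa [add_sub_cancel] at this
      have h3 : e x * (1 - e x) ∈ p'.asIdeal := by
        rw [mul_sub, mul_one, he1, sub_self]; exact zero_mem _
      have h4 : e x ∈ p'.asIdeal := (p'.2.mem_or_mem h3).resolve_right h2
      have h5 : e x * x ∈ p'.asIdeal := Ideal.mul_mem_right _ _ h4
      rw [he2] at h5
      exact h5
  change IsCompact {p : PrimeSpectrum R | IsMaxPt (show Spec (CommRingCat.of R) from p)}
  rw [key]
  refine IsProCons.isCompact (X := PrimeSpectrum R) (isProCons_iInter fun x => ?_)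
  exact (isProCons_compactOpen (PrimeSpectrum.isCompact_basicOpen x)
    (PrimeSpectrum.basicOpen x).2).union
    (isProCons_compactOpen (PrimeSpectrum.isCompact_basicOpen _) (PrimeSpectrum.basicOpen _).2)

/-- the product of the residue fields -/
abbrev KK (A : Type u) [CommRing A] : Type u := ∀ p : PrimeSpectrum A, p.asIdeal.ResidueField

theorem pp_integralClosure (A : Type u) [CommRing A] : PP (integralClosure A (KK A)) := by
  classical
  intro x
  let e : KK A := fun p => if x.1 p = 0 then 0 else 1
  have hee : e * e = e := by
    funext p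
    change e p * e p = e p
    simp only [e]
    split_ifs <;> simp
  have he : IsIntegral A e := by
    rcases subsingleton_or_nontrivial A with _ | _
    · have : e = 0 := by
        funext p
        exact (p.2.ne_top (Subsingleton.elim _ _)).elim
      rw [this]
      exact isIntegral_zero
    refine ⟨(Polynomial.X ^ 2 - Polynomial.X : Polynomial A), ?_, ?_⟩
    · refine Polynomial.Monic.sub_of_left (Polynomial.monic_X_pow 2) ?_
      rw [Polynomial.degree_X_pow, Polynomial.degree_X]
      norm_num
    · rw [Polynomial.eval₂_sub, Polynomial.eval₂_X_pow, Polynomial.eval₂_X, pow_two, hee, sub_self]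
  refine ⟨⟨e, he⟩, Subtype.ext hee, Subtype.ext ?_, ?_⟩
  · funext p
    change e p * x.1 p = x.1 p
    simp only [e]
    split_ifs with h
    · rw [h, mul_zero]
    · rw [one_mul]
  · intro y hy
    have hy' : x.1 * y.1 = 0 := congrArg Subtype.val hy
    refine Subtype.ext ?_
    funext p
    have hp : x.1 p * y.1 p = 0 := congrFun hy' p
    change e p * y.1 p = 0
    simp only [e]
    split_ifs with h
    · rw [zero_mul]
    · rw [one_mul]
      exact (mul_eq_zero.mp hp).resolve_left h

/-- **An affine scheme receives an integral surjective morphism from a reduced affine scheme with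
quasi-compact set of maximal points.** -/
theorem exists_cover (Y : Scheme.{u}) [IsAffine Y] :
    ∃ (Y' : Scheme.{u}) (e : Y' ⟶ Y), IsAffine Y' ∧ IsReduced Y' ∧ IsIntegralHom e ∧
      Surjective e ∧ IsCompact {y : Y' | IsMaxPt y} := by
  let A : Type u := Γ(Y, ⊤)
  let A' : Type u := integralClosure A (KK A)
  have hred : _root_.IsReduced A' := by
    have : _root_.IsReduced (KK A) := inferInstance
    exact isReduced_of_injective (integralClosure A (KK A)).val Subtype.val_injective
  have hint : (algebraMap A A').IsIntegral := algebraMap_isIntegral_iff.mpr inferInstance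
  have hker : RingHom.ker (algebraMap A A') ≤ nilradical A := by
    intro x hx
    rw [mem_nilradical, nilpotent_iff_mem_prime]
    intro J hJ
    have h1 : algebraMap A (KK A) x = 0 := congrArg Subtype.val ((RingHom.mem_ker).mp hx)
    have h2 : algebraMap A (⟨J, hJ⟩ : PrimeSpectrum A).asIdeal.ResidueField x = 0 :=
      congrFun h1 ⟨J, hJ⟩
    rwa [Ideal.algebraMap_residueField_eq_zero] at h2
  have hsurj : Function.Surjective (PrimeSpectrum.comap (algebraMap A A')) := by
    have h4 : (algebraMap A A').kerLift.IsIntegral := by
      intro x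
      obtain ⟨q, hq, hq'⟩ := hint x
      refine ⟨q.map (Ideal.Quotient.mk _), hq.map _, ?_⟩
      rw [Polynomial.eval₂_map]
      exact hq'
    exact (PrimeSpectrum.comap_quotientMk_bijective_of_le_nilradical hker).2.comp <|
      h4.comap_surjective (algebraMap A A').kerLift_injective
  let s : Spec (CommRingCat.of A') ⟶ Spec (CommRingCat.of A) :=
    Spec.map (CommRingCat.ofHom (algebraMap A A'))
  have hs : Surjective s := ⟨hsurj⟩
  have hi : IsIntegralHom s := by
    rw [IsIntegralHom.SpecMap_iff]
    exact hint
  refine ⟨Spec (CommRingCat.of A'), s ≫ Y.isoSpec.inv, inferInstance, ?_, ?_, ?_,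
    isCompact_maxPts A' (pp_integralClosure A)⟩
  · have : _root_.IsReduced (CommRingCat.of A') := hred
    infer_instance
  · exact MorphismProperty.comp_mem (W := @IsIntegralHom) _ _ hi inferInstance
  · exact inferInstanceAs (Surjective (s ≫ Y.isoSpec.inv))

end K835.PPRing
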