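import Groth.Agent.Subtr.K835.Ref
import Groth.Agent.Subtr.K835.Flatten
import Groth.Agent.Subtr.K835.PPRing
import Groth.Agent.S4368

/-!
# Structure of universally S-subtrusive and of universally open morphisms of finite presentation

Refinement by a flat surjective morphism of finite presentation followed by a proper surjective
morphism of finite presentation.
-/

set_option autoImplicit false
universe u
open CategoryTheory CategoryTheory.Limits AlgebraicGeometry Topology

namespace K835.Struct

open Subtr Groth.Agent.Flat2C.StrictTr K835.GenFlat K835.Ref K835.Stage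
open Groth.Agent.Ega43.LimDesc (Descends)

/-- surjective closed immersions -/
def NilP : MorphismProperty Scheme.{u} := @IsClosedImmersion ⊓ @Surjective

instance : MorphismProperty.IsStableUnderBaseChange NilP.{u} :=
  MorphismProperty.IsStableUnderBaseChange.inf (P := @IsClosedImmersion) (Q := @Surjective)

theorem descends_nilP : Descends NilP.{u} := descends_nil

theorem finite_isMaxPt (Y : Scheme.{u}) [IsNoetherian Y] : {y : Y | IsMaxPt y}.Finite := by
  have h := TopologicalSpace.NoetherianSpace.finite_irreducibleComponents (α := Y)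
  refine Set.Finite.of_injOn (f := fun y : Y => closure {y}) (t := irreducibleComponents Y)
    ?_ ?_ h
  · intro y hy
    refine ⟨isIrreducible_singleton.closure, ?_⟩
    intro Z hZ hle
    obtain ⟨η, hη⟩ := QuasiSober.sober hZ.closure isClosed_closure
    have h1 : η ⤳ y := hη.specializes (subset_closure (hle (subset_closure rfl)))
    have h2 := hy _ h1
    subst h2
    exact subset_closure.trans hη.def.symm.subset
  · intro y _ y' _ hyy'
    exact (inseparable_iff_closure_eq.mpr hyy').eq

theorem surjective_nilradical (Y : Scheme.{u}) : Surjective Y.nilradical.subschemeι := by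
  refine ⟨fun y => ?_⟩
  have h : Set.range Y.nilradical.subschemeι = Set.univ := by
    rw [Scheme.IdealSheafData.range_subschemeι, Scheme.support_nilradical]
    rfl
  exact h.superset (Set.mem_univ y)

/-- The two cases of the structure theorems. -/
theorem exists_cover (Y : Scheme.{u}) (hY : IsAffine Y ∨ IsNoetherian Y) :
    ∃ (Y' : Scheme.{u}) (e : Y' ⟶ Y), IsReduced Y' ∧ IsIntegralHom e ∧ Surjective e ∧
      IsCompact {y : Y' | IsMaxPt y} := by
  rcases hY with hY | hY
  · obtain ⟨Y', e, -, h1, h2, h3, h4⟩ := K835.PPRing.exists_cover Y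
    exact ⟨Y', e, h1, h2, h3, h4⟩
  · have h1 : IsReduced Y.nilradical.subscheme :=
      (Groth.Agent.S4368.result Y Y.nilradical (Scheme.support_nilradical Y)).2 rfl
    have h2 : IsNoetherian Y.nilradical.subscheme := by
      have := LocallyOfFiniteType.isLocallyNoetherian Y.nilradical.subschemeι
      have := QuasiCompact.compactSpace_of_compactSpace Y.nilradical.subschemeι
      exact {}
    exact ⟨_, Y.nilradical.subschemeι, h1, inferInstance, surjective_nilradical Y,
      (finite_isMaxPt _).isCompact⟩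

section Blow

variable {X Y Y' : Scheme.{u}} (f : X ⟶ Y) (e : Y' ⟶ Y) [IsReduced Y'] [CompactSpace Y']
  [QuasiSeparatedSpace Y'] (hgen : IsCompact {y : Y' | IsMaxPt y})
  [LocallyOfFinitePresentation f] [QuasiCompact f] [QuasiSeparated f]

include hgen in
/-- The general form: blow up and take the strict transform. -/
theorem exists_blow (P : MorphismProperty Scheme.{u}) [P.RespectsIso]
    (H : ∀ {E : Scheme.{u}} (b : E ⟶ Y') (𝓘 : Y'.IdealSheafData) (𝒥 : (pullback (pullback.snd f e)
      b).IdealSheafData), BlowUp.IsBlowUp b 𝓘 → BlowUp.IsFiniteTypeIdeal 𝓘 →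
      IsKilledIdeal ((𝓘.comap (pullback.snd f e)).comap (pullback.fst (pullback.snd f e) b)) 𝒥 →
      Surjective (𝒥.subschemeι ≫ pullback.snd (pullback.snd f e) b) ∧ P 𝒥.subschemeι) :
    ∃ (E : Scheme.{u}) (b : E ⟶ Y'), IsProper b ∧ Surjective b ∧ IsRef P f (b ≫ e) := by
  obtain ⟨U, 𝓘, E, b, h1, h2, h3, h4, h5, h6, h7, h8⟩ :=
    K835.Flatten.exists_blowUp hgen (pullback.snd f e)
  have hft : BlowUp.IsFiniteTypeIdeal ((𝓘.comap (pullback.snd f e)).comap
      (pullback.fst (pullback.snd f e) b)) :=
    isFiniteTypeIdeal_comap (isFiniteTypeIdeal_comap h5.1 _) _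
  obtain ⟨𝒥, h𝒥⟩ : ∃ 𝒥, IsKilledIdeal ((𝓘.comap (pullback.snd f e)).comap
    (pullback.fst (pullback.snd f e) b)) 𝒥 := ⟨_, isKilledIdeal_killedIdeal hft⟩
  obtain ⟨a1, a2, a3, a4⟩ := h8 _ _ _ (IsPullback.of_hasPullback (pullback.snd f e) b) 𝒥 h𝒥
  obtain ⟨c1, c2⟩ := H b 𝓘 𝒥 h4 h5.1 h𝒥
  refine ⟨E, b, h7, h6, 𝒥.subscheme, 𝒥.subschemeι ≫ pullback.snd (pullback.snd f e) b,
    𝒥.subschemeι ≫ (pullbackLeftPullbackSndIso f e b).hom, ?_, a1, c1, a2, a3, a4,
    (P.cancel_right_of_respectsIso _ _).2 c2⟩
  rw [Category.assoc, pullbackLeftPullbackSndIso_hom_snd]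

include hgen in
theorem exists_blow_top (hf : UnivSSubtrusive f) :
    ∃ (E : Scheme.{u}) (b : E ⟶ Y'), IsProper b ∧ Surjective b ∧ IsRef ⊤ f (b ≫ e) := by
  refine exists_blow f e hgen ⊤ ?_
  intro E b 𝓘 𝒥 h1 h2 h3
  refine ⟨K835.Flatten.surjective_strictTransform h1 h2
    (IsPullback.of_hasPullback (pullback.snd f e) b) (K835.Basic.isSS ?_) h3, trivial⟩
  exact K835.Basic.of_isPullback (IsPullback.of_hasPullback (pullback.snd f e) b)
    (K835.Basic.of_isPullback (IsPullback.of_hasPullback f e) hf)

include hgen in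
theorem exists_blow_nil [UniversallyOpen f] [Surjective f] :
    ∃ (E : Scheme.{u}) (b : E ⟶ Y'), IsProper b ∧ Surjective b ∧
      IsRef NilP f (b ≫ e) := by
  have : MorphismProperty.RespectsIso NilP.{u} :=
    MorphismProperty.IsStableUnderBaseChange.respectsIso
  refine exists_blow f e hgen NilP ?_
  intro E b 𝓘 𝒥 h1 h2 h3
  have hft : BlowUp.IsFiniteTypeIdeal ((𝓘.comap (pullback.snd f e)).comap
      (pullback.fst (pullback.snd f e) b)) :=
    isFiniteTypeIdeal_comap (isFiniteTypeIdeal_comap h2 _) _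
  have hJ' := h3.eq_killedIdeal hft
  have hc : ((compl ((𝓘.comap (pullback.snd f e)).comap (pullback.fst (pullback.snd f e) b)) :
      (pullback (pullback.snd f e) b).Opens) : Set ↥(pullback (pullback.snd f e) b)) =
      (pullback.snd (pullback.snd f e) b) ⁻¹' ((compl (𝓘.comap b) : E.Opens) : Set E) := by
    rw [← Scheme.IdealSheafData.comap_comp, pullback.condition, Scheme.IdealSheafData.comap_comp,
      compl_comap]
    rfl
  have hd : Dense ((compl (𝓘.comap b) : E.Opens) : Set E) :=
    dense_of_max fun y hy => K835.Flatten.mem_compl_of_isMax h1.1 hy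
  have hop : IsOpenMap (pullback.snd (pullback.snd f e) b) :=
    (pullback.snd (pullback.snd f e) b).isOpenMap
  have hr : Set.range 𝒥.subschemeι = Set.univ := by
    rw [Scheme.IdealSheafData.range_subschemeι, hJ', coe_support_killedIdeal hft, hc]
    exact (hd.preimage hop).closure_eq
  have hs : Surjective 𝒥.subschemeι := ⟨fun y => hr.superset (Set.mem_univ y)⟩
  exact ⟨inferInstance, inferInstance, hs⟩

end Blow

/-- the structure theorem, general form -/
theorem exists_proper_of_blow {P : MorphismProperty Scheme.{u}} [P.IsStableUnderBaseChange]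
    (hP : Descends P) {X Y : Scheme.{u}} (f : X ⟶ Y) (hY : IsAffine Y ∨ IsNoetherian Y)
    [LocallyOfFinitePresentation f] [QuasiCompact f] [QuasiSeparated f]
    (H : ∀ {Y' : Scheme.{u}} (e : Y' ⟶ Y) [IsReduced Y'] [CompactSpace Y']
      [QuasiSeparatedSpace Y'], IsCompact {y : Y' | IsMaxPt y} →
      ∃ (E : Scheme.{u}) (b : E ⟶ Y'), IsProper b ∧ Surjective b ∧ IsRef P f (b ≫ e)) :
    ∃ (Z : Scheme.{u}) (q : Z ⟶ Y), IsProper q ∧ Surjective q ∧
      LocallyOfFinitePresentation q ∧ IsRef P f q := by
  have h1 : CompactSpace Y := by rcases hY with hY | hY <;> infer_instance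
  have h2 : QuasiSeparatedSpace Y := by rcases hY with hY | hY <;> infer_instance
  obtain ⟨Y', e, h3, h4, h5, h6⟩ := exists_cover Y hY
  have h7 : CompactSpace Y' := QuasiCompact.compactSpace_of_compactSpace e
  have h8 : QuasiSeparatedSpace Y' := quasiSeparatedSpace_of_quasiSeparated e
  obtain ⟨E, b, h9, h10, h11⟩ := H e h6
  exact exists_proper_fp (good_isRef hP f) e b h11

/-- **S14779.** -/
theorem exists_flat_proper {X Y : Scheme.{u}} (f : X ⟶ Y) (hY : IsAffine Y ∨ IsNoetherian Y)
    [LocallyOfFinitePresentation f] [QuasiCompact f] [QuasiSeparated f] (hf : UnivSSubtrusive f) :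
    ∃ (Z : Scheme.{u}) (q : Z ⟶ Y), IsProper q ∧ Surjective q ∧
      LocallyOfFinitePresentation q ∧ IsRef ⊤ f q :=
  exists_proper_of_blow descends_top f hY fun e _ _ _ hg => exists_blow_top f e hg hf

/-- **S14780.** -/
theorem exists_flat_proper_nil {X Y : Scheme.{u}} (f : X ⟶ Y) (hY : IsAffine Y ∨ IsNoetherian Y)
    [LocallyOfFinitePresentation f] [QuasiCompact f] [QuasiSeparated f] [UniversallyOpen f]
    [Surjective f] :
    ∃ (Z : Scheme.{u}) (q : Z ⟶ Y), IsProper q ∧ Surjective q ∧
      LocallyOfFinitePresentation q ∧ IsRef NilP f q :=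
  exists_proper_of_blow descends_nilP f hY fun e _ _ _ hg => exists_blow_nil f e hg

end K835.Struct
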