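import Groth.Agent.S2152
import Groth.Agent.Proet.Spectral
import Mathlib.Topology.Category.TopCat.Limits.Konig
import Mathlib.AlgebraicGeometry.Morphisms.QuasiSeparated

/-!
# Points and pairs of points of cofiltered limits

* `exists_point_mem`: a compatible system of nonempty pro-constructible subsets of the stages of a
  cofiltered system of quasi-compact and quasi-separated schemes comes from a point of the limit;
* `exists_pair_mem`: the same for ordered pairs of points (a point and a specialization).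
-/

set_option autoImplicit false
universe u
open CategoryTheory CategoryTheory.Limits AlgebraicGeometry Topology TopologicalSpace

namespace K835.LimPoints

open Groth.Agent.Proet.Spectral

/-- a space with its constructible topology -/
def CT (X : Type u) : Type u := X

instance (X : Type u) [TopologicalSpace X] : TopologicalSpace (CT X) := constructibleTopology X

/-- a subset, for the constructible topology -/
def cts {X : Type u} (C : Set X) : Set (CT X) := C

/-- a map, for the constructible topology -/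
def ctMap {X Y : Type u} (f : X → Y) : CT X → CT Y := f

/-- Spectral maps are continuous for the constructible topologies. -/
theorem continuous_constr {A B : Type u} [TopologicalSpace A] [TopologicalSpace B] {f : A → B}
    (hf : IsSpectralMap f) :
    Continuous[constructibleTopology A, constructibleTopology B] f := by
  refine (@continuous_generateFrom_iff _ _ f (constructibleTopology A) _).2 ?_
  rintro s (⟨ho, hc⟩ | ⟨ho, hc⟩)
  · exact IsCompact.isOpen_constructibleTopology_of_isOpen (hf.isCompact_preimage_of_isOpen ho hc)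
      (ho.preimage hf.continuous)
  · refine IsCompact.isOpen_constructibleTopology_of_isClosed ?_ (ho.preimage hf.continuous)
    rw [← Set.preimage_compl]
    exact hf.isCompact_preimage_of_isOpen ho.isOpen_compl hc

theorem continuous_ctMap {A B : Type u} [TopologicalSpace A] [TopologicalSpace B] {f : A → B}
    (hf : IsSpectralMap f) : Continuous (ctMap f) := @continuous_constr A B _ _ f hf

section

variable {I : Type u} [SmallCategory I] [IsCofiltered I] (D : I ⥤ Scheme.{u})
    (c : Cone D) (hc : IsLimit c) [∀ (i j : I) (f : i ⟶ j), IsAffineHom (D.map f)]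
    [∀ i, CompactSpace (D.obj i)] [∀ i, QuasiSeparatedSpace (D.obj i)]

/-- the diagram of subspaces -/
def diag (C : ∀ i, Set (D.obj i))
    (hm : ∀ {i j : I} (φ : i ⟶ j), Set.MapsTo (D.map φ) (C i) (C j)) : I ⥤ TopCat.{u} where
  obj i := TopCat.of (cts (C i))
  map {i j} φ := TopCat.ofHom ⟨fun x => ⟨ctMap (D.map φ) x.1, hm φ x.2⟩,
    ((continuous_ctMap (D.map φ).isSpectralMap).comp continuous_subtype_val).subtype_mk _⟩
  map_id i := by
    ext x
    change D.map (𝟙 i) x.1 = x.1
    rw [D.map_id]
    rfl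
  map_comp {i j k} φ ψ := by
    ext x
    change D.map (φ ≫ ψ) x.1 = D.map ψ (D.map φ x.1)
    rw [D.map_comp]
    rfl

include hc in
theorem exists_point_mem (C : ∀ i, Set (D.obj i)) (hC : ∀ i, IsProCons (C i))
    (hne : ∀ i, (C i).Nonempty)
    (hm : ∀ {i j : I} (φ : i ⟶ j), Set.MapsTo (D.map φ) (C i) (C j)) :
    ∃ s : c.pt, ∀ i, c.π.app i s ∈ C i := by
  let F := diag D C hm
  have h1 : ∀ i, Nonempty (F.obj i) := fun i => by
    obtain ⟨x, hx⟩ := hne i
    exact ⟨⟨x, hx⟩⟩
  have h2 : ∀ i, CompactSpace (F.obj i) := fun i => by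
    have : CompactSpace (CT (D.obj i)) := @compactSpace_constr (D.obj i) _ _ _ _ _
    have hcl : IsClosed (cts (C i)) := hC i
    exact isCompact_iff_compactSpace.mp hcl.isCompact
  have h3 : ∀ i, T2Space (F.obj i) := fun i => by
    have : SpectralSpace (D.obj i) := {}
    have : T2Space (CT (D.obj i)) := @t2Space_constr (D.obj i) _ _
    exact inferInstanceAs (T2Space (cts (C i)))
  obtain ⟨u⟩ := TopCat.nonempty_limitCone_of_compact_t2_cofiltered_system.{u, u} F
  obtain ⟨s, hs⟩ := Groth.Agent.S2152.exists_point D c hc (fun i => (u.1 i).1)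
    (fun {i j} φ => congrArg Subtype.val (u.2 φ))
  exact ⟨s, fun i => by rw [hs]; exact (u.1 i).2⟩

/-- the specialization relation is closed in the product of the constructible topologies -/
theorem isClosed_specializes {X : Type u} [TopologicalSpace X] [PrespectralSpace X] :
    IsClosed {p : CT X × CT X | (show X from p.1) ⤳ (show X from p.2)} := by
  rw [← isOpen_compl_iff, isOpen_iff_mem_nhds]
  rintro ⟨a, b⟩ hab
  have hab' : ¬ (show X from a) ⤳ (show X from b) := hab
  rw [specializes_iff_forall_open] at hab'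
  push Not at hab'
  obtain ⟨U, hU, hbU, haU⟩ := hab'
  obtain ⟨V, ⟨hVo, hVc⟩, hbV, hVU⟩ :=
    (PrespectralSpace.isTopologicalBasis (X := X)).exists_subset_of_mem_open hbU hU
  have h1 : IsOpen (cts Vᶜ) := @IsCompact.isOpen_constructibleTopology_of_isClosed X _ Vᶜ
    (by rw [compl_compl]; exact hVc) hVo.isClosed_compl
  have h2 : IsOpen (cts V) := @IsCompact.isOpen_constructibleTopology_of_isOpen X _ V hVc hVo
  refine Filter.mem_of_superset ((h1.prod h2).mem_nhds ⟨fun h => haU (hVU h), hbV⟩) ?_
  rintro ⟨x, y⟩ ⟨hx, hy⟩ hxy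
  have hxy' : (show X from x) ⤳ (show X from y) := hxy
  exact hx (hxy'.mem_open hVo hy)

/-- the set of ordered pairs -/
def pairs {X : Type u} [TopologicalSpace X] (A B : Set X) : Set (CT X × CT X) :=
  {p | p.1 ∈ cts A ∧ p.2 ∈ cts B ∧ (show X from p.1) ⤳ (show X from p.2)}

theorem isClosed_pairs {X : Type u} [TopologicalSpace X] [PrespectralSpace X] {A B : Set X}
    (hA : IsProCons A) (hB : IsProCons B) : IsClosed (pairs A B) := by
  have h1 : IsClosed (cts A) := hA
  have h2 : IsClosed (cts B) := hB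
  exact (h1.preimage continuous_fst).inter ((h2.preimage continuous_snd).inter
    isClosed_specializes)

/-- the diagram of spaces of pairs -/
def diagPair (A B : ∀ i, Set (D.obj i))
    (hA : ∀ {i j : I} (φ : i ⟶ j), Set.MapsTo (D.map φ) (A i) (A j))
    (hB : ∀ {i j : I} (φ : i ⟶ j), Set.MapsTo (D.map φ) (B i) (B j)) : I ⥤ TopCat.{u} where
  obj i := TopCat.of (pairs (A i) (B i))
  map {i j} φ := TopCat.ofHom ⟨fun x => ⟨(ctMap (D.map φ) x.1.1, ctMap (D.map φ) x.1.2),
      hA φ x.2.1, hB φ x.2.2.1, x.2.2.2.map (D.map φ).continuous⟩,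
    (((continuous_ctMap (D.map φ).isSpectralMap).comp
      (continuous_fst.comp continuous_subtype_val)).prodMk
      ((continuous_ctMap (D.map φ).isSpectralMap).comp
        (continuous_snd.comp continuous_subtype_val))).subtype_mk _⟩
  map_id i := by
    ext x
    · change D.map (𝟙 i) x.1.1 = x.1.1
      rw [D.map_id]
      rfl
    · change D.map (𝟙 i) x.1.2 = x.1.2
      rw [D.map_id]
      rfl
  map_comp {i j k} φ ψ := by
    ext x
    · change D.map (φ ≫ ψ) x.1.1 = D.map ψ (D.map φ x.1.1)
      rw [D.map_comp]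
      rfl
    · change D.map (φ ≫ ψ) x.1.2 = D.map ψ (D.map φ x.1.2)
      rw [D.map_comp]
      rfl

include hc in
omit [∀ i, CompactSpace (D.obj i)] [∀ i, QuasiSeparatedSpace (D.obj i)] in
theorem specializes_of_forall {a b : c.pt} (h : ∀ i, c.π.app i a ⤳ c.π.app i b) : a ⤳ b := by
  rw [specializes_iff_forall_open]
  intro s hs hb
  obtain ⟨_, ⟨i, V, hV, rfl⟩, hbV, hVs⟩ :=
    TopologicalSpace.Opens.isBasis_iff_nbhd.1 (isBasis_preimage_isAffineOpen D c hc)
      (U := ⟨s, hs⟩) hb
  apply hVs
  exact (h i).mem_open V.2 hbV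

include hc in
theorem exists_pair_mem (A B : ∀ i, Set (D.obj i)) (hA : ∀ i, IsProCons (A i))
    (hB : ∀ i, IsProCons (B i))
    (hne : ∀ i, ∃ a ∈ A i, ∃ b ∈ B i, a ⤳ b)
    (hmA : ∀ {i j : I} (φ : i ⟶ j), Set.MapsTo (D.map φ) (A i) (A j))
    (hmB : ∀ {i j : I} (φ : i ⟶ j), Set.MapsTo (D.map φ) (B i) (B j)) :
    ∃ a b : c.pt, a ⤳ b ∧ (∀ i, c.π.app i a ∈ A i) ∧ ∀ i, c.π.app i b ∈ B i := by
  let F := diagPair D A B hmA hmB
  have h1 : ∀ i, Nonempty (F.obj i) := fun i => by
    obtain ⟨a, ha, b, hb, hab⟩ := hne i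
    exact ⟨⟨(a, b), ha, hb, hab⟩⟩
  have h2 : ∀ i, CompactSpace (F.obj i) := fun i => by
    have : CompactSpace (CT (D.obj i)) := @compactSpace_constr (D.obj i) _ _ _ _ _
    exact isCompact_iff_compactSpace.mp (isClosed_pairs (hA i) (hB i)).isCompact
  have h3 : ∀ i, T2Space (F.obj i) := fun i => by
    have : SpectralSpace (D.obj i) := {}
    have : T2Space (CT (D.obj i)) := @t2Space_constr (D.obj i) _ _
    exact inferInstanceAs (T2Space (pairs (A i) (B i)))
  obtain ⟨u⟩ := TopCat.nonempty_limitCone_of_compact_t2_cofiltered_system.{u, u} F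
  obtain ⟨s, hs⟩ := Groth.Agent.S2152.exists_point D c hc (fun i => (u.1 i).1.1)
    (fun {i j} φ => congrArg (fun z => z.1.1) (u.2 φ))
  obtain ⟨t, ht⟩ := Groth.Agent.S2152.exists_point D c hc (fun i => (u.1 i).1.2)
    (fun {i j} φ => congrArg (fun z => z.1.2) (u.2 φ))
  refine ⟨s, t, specializes_of_forall D c hc fun i => ?_, fun i => ?_, fun i => ?_⟩
  · rw [hs, ht]; exact (u.1 i).2.2.2
  · rw [hs]; exact (u.1 i).2.1
  · rw [ht]; exact (u.1 i).2.2.1

end

end K835.LimPoints
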