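import Groth.Agent.Subtr.K835.Basic
import Groth.Agent.Subtr.K835.Pro
import Groth.Agent.Subtr.K835.LimPoints
import Groth.Agent.Smoothlim.LimDescend
import Groth.Agent.Ega4fib.H121.ProConsBasic
import Mathlib.AlgebraicGeometry.Morphisms.LocalIso

/-!
# The lifting property for ordered pairs of points passes to cofiltered limits
-/

set_option autoImplicit false
universe u
open CategoryTheory CategoryTheory.Limits AlgebraicGeometry

namespace K835.LimSS

open Subtr K835.Basic Groth.Agent.Proet.Spectral K835.LimPoints Groth.Agent.Smoothlim.LimBase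

theorem isPro_iff {X : Scheme.{u}} [QuasiSeparatedSpace X] {E : Set X} :
    ProCons.IsProConstructible E ↔ IsProCons E :=
  Groth.Agent.Ega4fib.H121.ProConsBasic.isProConstructible_iff_isClosed

/-- base change along an open immersion -/
theorem of_isPullback_open {X' X Y' Y : Scheme.{u}} {k : X' ⟶ X} {f' : X' ⟶ Y'} {f : X ⟶ Y}
    {j : Y' ⟶ Y} (h : IsPullback k f' f j) [IsOpenImmersion j] (hf : IsSSubtrusive f) :
    IsSSubtrusive f' := by
  have : IsOpenImmersion k := MorphismProperty.of_isPullback h.flip ‹_›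
  intro y y' hy
  obtain ⟨x, x', hx, hxy, hxy'⟩ := hf (hy.map j.continuous)
  obtain ⟨z, rfl, hz⟩ := Scheme.exists_preimage_of_isPullback h x y hxy
  obtain ⟨z', rfl, hz'⟩ := Scheme.exists_preimage_of_isPullback h x' y' hxy'
  exact ⟨z, z', k.isOpenEmbedding.isInducing.specializes_iff.mp hx, hz, hz'⟩

/-- The base change of `f` along `t` is S-subtrusive. -/
def R {X Y T : Scheme.{u}} (f : X ⟶ Y) (t : T ⟶ Y) : Prop := IsSSubtrusive (pullback.snd f t)

theorem R.of_isPullback {X Y T X' : Scheme.{u}} {f : X ⟶ Y} {t : T ⟶ Y} {k : X' ⟶ X} {f' : X' ⟶ T}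
    (h : IsPullback k f' f t) (hf : IsSSubtrusive f') : R f t := by
  have e : h.isoPullback.inv ≫ f' = pullback.snd f t := h.isoPullback_inv_snd
  unfold R
  rw [← e]
  exact IsSS.comp (IsSS.of_isIso _) hf

theorem R.isPullback {X Y T X' : Scheme.{u}} {f : X ⟶ Y} {t : T ⟶ Y} {k : X' ⟶ X} {f' : X' ⟶ T}
    (h : IsPullback k f' f t) (hf : R f t) : IsSSubtrusive f' := by
  have e : h.isoPullback.hom ≫ pullback.snd f t = f' := h.isoPullback_hom_snd
  rw [← e]
  exact IsSS.comp (IsSS.of_isIso _) hf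

theorem R.open_comp {X Y T T' : Scheme.{u}} {f : X ⟶ Y} {t : T ⟶ Y} (hf : R f t) (j : T' ⟶ T)
    [IsOpenImmersion j] : R f (j ≫ t) :=
  of_isPullback_open (IsPullback.of_right' (IsPullback.of_hasPullback f (j ≫ t))
    (IsPullback.of_hasPullback f t)) hf

theorem R.of_openCover {X Y T : Scheme.{u}} {f : X ⟶ Y} {t : T ⟶ Y} (𝒰 : T.OpenCover)
    (h : ∀ i, R f (𝒰.f i ≫ t)) : R f t := by
  refine IsSS.of_openCover _ 𝒰 fun i => ?_
  exact R.isPullback (IsPullback.paste_vert (IsPullback.of_hasPullback _ _).flip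
    (IsPullback.of_hasPullback f t).flip).flip (h i)

/-- base change of the base -/
theorem R.iff_base {X Y V T : Scheme.{u}} {f : X ⟶ Y} (v : V ⟶ Y) (t : T ⟶ V) :
    R f (t ≫ v) ↔ R (pullback.snd f v) t := by
  constructor
  · intro h
    exact R.isPullback ((IsPullback.of_hasPullback (pullback.snd f v) t).flip.paste_vert
      (IsPullback.of_hasPullback f v).flip).flip h
  · intro h
    exact R.isPullback (IsPullback.of_right' (IsPullback.of_hasPullback f (t ≫ v))
      (IsPullback.of_hasPullback f v)) h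

/-- source refinement -/
theorem R.iff_source {U X Y T : Scheme.{u}} {f : X ⟶ Y} {t : T ⟶ Y} (w : U ⟶ X)
    (hw : UnivSSubtrusive w) : R (w ≫ f) t ↔ R f t := by
  have h1 : IsPullback (pullback.fst w (pullback.fst f t))
      (pullback.snd w (pullback.fst f t) ≫ pullback.snd f t) (w ≫ f) t :=
    (IsPullback.of_hasPullback w (pullback.fst f t)).paste_vert (IsPullback.of_hasPullback f t)
  have h2 : IsSSubtrusive (pullback.snd w (pullback.fst f t)) :=
    isSS (Basic.of_isPullback (IsPullback.of_hasPullback _ _) hw)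
  constructor
  · intro h
    exact IsSS.of_comp (R.isPullback h1 h)
  · intro h
    exact R.of_isPullback h1 (IsSS.comp h2 h)

section Pm

variable {W X S V : Scheme.{u}} (w : W ⟶ X) (f : X ⟶ S) (v : V ⟶ S)

/-- the canonical map `W ×[S] V ⟶ X ×[S] V` -/
noncomputable def pm : pullback (w ≫ f) v ⟶ pullback f v :=
  pullback.lift (pullback.fst _ _ ≫ w) (pullback.snd _ _) (by rw [Category.assoc, pullback.condition])

@[reassoc (attr := simp)]
lemma pm_fst : pm w f v ≫ pullback.fst f v = pullback.fst _ _ ≫ w := pullback.lift_fst _ _ _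

@[reassoc (attr := simp)]
lemma pm_snd : pm w f v ≫ pullback.snd f v = pullback.snd _ _ := pullback.lift_snd _ _ _

lemma isPullback_pm : IsPullback (pm w f v) (pullback.fst (w ≫ f) v) (pullback.fst f v) w := by
  have h3 : IsPullback (pullback.fst (w ≫ f) v) (pullback.snd (w ≫ f) v) (w ≫ f) v :=
    IsPullback.of_hasPullback _ _
  have h4 : IsPullback (pullback.fst f v) (pullback.snd f v) f v :=
    IsPullback.of_hasPullback _ _
  refine (IsPullback.of_right (h₁₂ := pullback.snd f v) (h₂₂ := f) (v₁₃ := v) ?_ ?_ h4.flip)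
  · rw [pm_snd]
    exact h3.flip
  · exact pm_fst w f v

end Pm

set_option backward.isDefEq.respectTransparency false in
theorem map_pm {I : Type u} [Category.{u} I] (D : I ⥤ Scheme.{u}) (i : I) {X Y : Scheme.{u}}
    (f : X ⟶ Y) (g : Y ⟶ D.obj i) {φ ψ : Over i} (a : φ ⟶ ψ) :
    (pbDiag D i (f ≫ g)).map a ≫ pm f g (D.map ψ.hom) =
      pm f g (D.map φ.hom) ≫ (pbDiag D i g).map a := by
  apply pullback.hom_ext <;> simp

set_option backward.isDefEq.respectTransparency false in
theorem cone_pm {I : Type u} [Category.{u} I] (D : I ⥤ Scheme.{u}) (c : Cone D) (i : I)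
    {X Y : Scheme.{u}} (f : X ⟶ Y) (g : Y ⟶ D.obj i) (φ : Over i) :
    (pbCone i (f ≫ g) c _ _ (IsPullback.of_hasPullback (f ≫ g) (c.π.app i)).toCommSq).π.app φ ≫
      pm f g (D.map φ.hom) =
      pm f g (c.π.app i) ≫
        (pbCone i g c _ _ (IsPullback.of_hasPullback g (c.π.app i)).toCommSq).π.app φ := by
  apply pullback.hom_ext <;> simp

/-- The affine case. -/
theorem affine_case {I : Type u} [SmallCategory I] [IsCofiltered I]
    (D : I ⥤ Scheme.{u}) (c : Cone D) (hc : IsLimit c)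
    [∀ (i j : I) (a : i ⟶ j), IsAffineHom (D.map a)] (i : I)
    {X Y : Scheme.{u}} [IsAffine X] [IsAffine Y] (f : X ⟶ Y) (g : Y ⟶ D.obj i)
    (h : ∀ (j : I) (φ : j ⟶ i), R f (pullback.fst g (D.map φ))) :
    R f (pullback.fst g (c.π.app i)) := by
  -- the two diagrams
  let E : Over i ⥤ Scheme.{u} := pbDiag D i g
  let G : Over i ⥤ Scheme.{u} := pbDiag D i (f ≫ g)
  have hE (φ : Over i) : IsAffine (E.obj φ) := isAffine_pbDiag D i g φ
  have hG (φ : Over i) : IsAffine (G.obj φ) := isAffine_pbDiag D i (f ≫ g) φ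
  have hE' : ∀ (φ ψ : Over i) (h : φ ⟶ ψ), IsAffineHom (E.map h) :=
    fun _ _ h ↦ isAffineHom_pbDiag_map D i g h
  have hG' : ∀ (φ ψ : Over i) (h : φ ⟶ ψ), IsAffineHom (G.map h) :=
    fun _ _ h ↦ isAffineHom_pbDiag_map D i (f ≫ g) h
  let cE : Cone E := pbCone i g c _ _ (IsPullback.of_hasPullback g (c.π.app i)).toCommSq
  have hcE : IsLimit cE := isLimitPbCone i g c hc _ _ (IsPullback.of_hasPullback g (c.π.app i))
  let cG : Cone G := pbCone i (f ≫ g) c _ _
    (IsPullback.of_hasPullback (f ≫ g) (c.π.app i)).toCommSq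
  have hcG : IsLimit cG :=
    isLimitPbCone i (f ≫ g) c hc _ _ (IsPullback.of_hasPullback (f ≫ g) (c.π.app i))
  -- the maps `G ⟶ E`
  let r (φ : Over i) : G.obj φ ⟶ E.obj φ := pm f g (D.map φ.hom)
  have hr {φ ψ : Over i} (a : φ ⟶ ψ) : G.map a ≫ r ψ = r φ ≫ E.map a := map_pm D i f g a
  have hrp (φ : Over i) : IsPullback (pullback.fst (f ≫ g) (D.map φ.hom)) (r φ) f
      (pullback.fst g (D.map φ.hom)) := (isPullback_pm f g (D.map φ.hom)).flip
  let r' : cG.pt ⟶ cE.pt := pm f g (c.π.app i)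
  have hr' (φ : Over i) : cG.π.app φ ≫ r φ = r' ≫ cE.π.app φ := cone_pm D c i f g φ
  have hrp' : IsPullback (pullback.fst (f ≫ g) (c.π.app i)) r' f
      (pullback.fst g (c.π.app i)) := (isPullback_pm f g (c.π.app i)).flip
  have hr1 {φ ψ : Over i} (a : φ ⟶ ψ) (x : G.obj φ) : r ψ (G.map a x) = E.map a (r φ x) := by
    rw [← Scheme.Hom.comp_apply, hr, Scheme.Hom.comp_apply]
  have hr2 (φ : Over i) (x : cG.pt) : r φ (cG.π.app φ x) = cE.π.app φ (r' x) := by
    rw [← Scheme.Hom.comp_apply, hr', Scheme.Hom.comp_apply]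
  refine R.of_isPullback hrp' ?_
  intro b a hab
  obtain ⟨x', x, hx, hA, hB⟩ := exists_pair_mem G cG hcG
    (fun φ => r φ ⁻¹' {cE.π.app φ a}) (fun φ => r φ ⁻¹' {cE.π.app φ b})
    (fun φ => isPro_iff.mp (Pro.isPro_fiber _ _)) (fun φ => isPro_iff.mp (Pro.isPro_fiber _ _))
    (fun φ => by
      obtain ⟨x, x', hx, h1, h2⟩ := R.isPullback (hrp φ) (h φ.left φ.hom)
        (hab.map (cE.π.app φ).continuous)
      exact ⟨x', h2, x, h1, hx⟩)
    (fun {φ ψ} m x hx => by
      have hx' : r φ x = cE.π.app φ a := hx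
      change r ψ (G.map m x) = cE.π.app ψ a
      rw [hr1, hx', ← Scheme.Hom.comp_apply, cE.w])
    (fun {φ ψ} m x hx => by
      have hx' : r φ x = cE.π.app φ b := hx
      change r ψ (G.map m x) = cE.π.app ψ b
      rw [hr1, hx', ← Scheme.Hom.comp_apply, cE.w])
  refine ⟨x, x', hx, ?_, ?_⟩
  · refine Groth.Agent.S2152.point_ext E cE hcE _ _ fun φ => ?_
    exact (hr2 φ x).symm.trans (hB φ)
  · refine Groth.Agent.S2152.point_ext E cE hcE _ _ fun φ => ?_
    exact (hr2 φ x').symm.trans (hA φ)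

/-- a quasi-compact scheme receives a surjective local isomorphism from an affine scheme -/
theorem exists_affine_localIso (X : Scheme.{u}) [CompactSpace X] :
    ∃ (U : Scheme.{u}) (w : U ⟶ X), IsAffine U ∧ IsLocalIso w ∧ Surjective w := by
  let 𝒰 : Scheme.OpenCover.{u} X := X.affineCover.finiteSubcover
  have (a : _) : IsAffine (𝒰.X a) := inferInstanceAs (IsAffine (Spec _))
  refine ⟨∐ 𝒰.X, Sigma.desc 𝒰.f, inferInstance, ?_, inferInstance⟩
  exact IsZariskiLocalAtSource.sigmaDesc fun i => IsZariskiLocalAtSource.of_isOpenImmersion (𝒰.f i)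

theorem univ_of_isLocalIso {X Y : Scheme.{u}} (w : X ⟶ Y) [IsLocalIso w] [Surjective w] :
    UnivSSubtrusive w := by
  have : UniversallyOpen w :=
    IsLocalIso.le_of_isZariskiLocalAtSource @UniversallyOpen X Y w inferInstance
  exact of_universallyOpen w

section

variable {I : Type u} [SmallCategory I] [IsCofiltered I]
    (D : I ⥤ Scheme.{u}) (c : Cone D) (hc : IsLimit c)
    [∀ (i j : I) (a : i ⟶ j), IsAffineHom (D.map a)]

include hc in
/-- The case of an affine target. -/
theorem affine_case' (i : I)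
    {X Y : Scheme.{u}} [IsAffine Y] (f : X ⟶ Y) [QuasiCompact f] (g : Y ⟶ D.obj i)
    (h : ∀ (j : I) (φ : j ⟶ i), R f (pullback.fst g (D.map φ))) :
    R f (pullback.fst g (c.π.app i)) := by
  have : CompactSpace X := QuasiCompact.compactSpace_of_compactSpace f
  obtain ⟨U, w, _, _, _⟩ := exists_affine_localIso X
  have hw := univ_of_isLocalIso w
  rw [← R.iff_source w hw]
  refine affine_case D c hc i (w ≫ f) g fun j φ => ?_
  rw [R.iff_source w hw]
  exact h j φ

include hc in
/-- The general case, over one stage. -/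
theorem main_case (i : I)
    {X Y : Scheme.{u}} (f : X ⟶ Y) [QuasiCompact f] (g : Y ⟶ D.obj i)
    (h : ∀ (j : I) (φ : j ⟶ i), R f (pullback.fst g (D.map φ))) :
    R f (pullback.fst g (c.π.app i)) := by
  let 𝒰 : Scheme.OpenCover.{u} Y := Y.affineCover
  have (a : _) : IsAffine (𝒰.X a) := inferInstanceAs (IsAffine (Spec _))
  refine R.of_openCover (𝒰.pullback₁ (pullback.fst g (c.π.app i))) fun l => ?_
  have h1 : R f (pm (𝒰.f l) g (c.π.app i) ≫ pullback.fst g (c.π.app i)) := by
    rw [pm_fst, R.iff_base]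
    refine affine_case' D c hc i _ _ fun j φ => ?_
    rw [← R.iff_base, ← pm_fst]
    have : IsOpenImmersion (pm (𝒰.f l) g (D.map φ)) :=
      MorphismProperty.of_isPullback (isPullback_pm _ _ _).flip (inferInstanceAs
        (IsOpenImmersion (𝒰.f l)))
    exact R.open_comp (h j φ) _
  have hp := isPullback_pm (𝒰.f l) g (c.π.app i)
  have hq : IsPullback ((𝒰.pullback₁ (pullback.fst g (c.π.app i))).f l)
    (pullback.snd (pullback.fst g (c.π.app i)) (𝒰.f l)) (pullback.fst g (c.π.app i)) (𝒰.f l) :=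
    IsPullback.of_hasPullback _ _
  let e := hq.isoIsPullback _ _ hp
  have he : e.hom ≫ pm (𝒰.f l) g (c.π.app i) =
      (𝒰.pullback₁ (pullback.fst g (c.π.app i))).f l := hq.isoIsPullback_hom_fst _ _ hp
  rw [← he, Category.assoc]
  exact R.open_comp h1 e.hom

end

/-- composite of two base changes -/
theorem R.iff_paste {X Y A B C A' : Scheme.{u}} {f : X ⟶ Y} {v : A ⟶ Y} {g : A ⟶ B}
    {t : C ⟶ B} {u : A' ⟶ A} {g' : A' ⟶ C} (h : IsPullback u g' g t) :
    R f (u ≫ v) ↔ R f (pullback.fst g t ≫ v) := by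
  constructor
  · intro h'
    rw [← h.isoPullback_inv_fst, Category.assoc]
    exact R.open_comp h' _
  · intro h'
    rw [← h.isoPullback_hom_fst, Category.assoc]
    exact R.open_comp h' _

/-- **The lifting property for ordered pairs of points passes to cofiltered limits.** -/
theorem main {I : Type u} [SmallCategory I] [IsCofiltered I]
    (D : I ⥤ Scheme.{u}) (c : Cone D) (hc : IsLimit c)
    [∀ (i j : I) (a : i ⟶ j), IsAffineHom (D.map a)] (i₀ : I)
    {X₀ Y₀ : Scheme.{u}} (f₀ : X₀ ⟶ Y₀) (g₀ : Y₀ ⟶ D.obj i₀) [QuasiCompact f₀]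
    (i₁ : I) (ψ : i₁ ⟶ i₀) (h : ∀ (i : I) (φ : i ⟶ i₁),
      R f₀ (pullback.fst g₀ (D.map (φ ≫ ψ)))) :
    R f₀ (pullback.fst g₀ (c.π.app i₀)) := by
  let v := pullback.fst g₀ (D.map ψ)
  let g₁ := pullback.snd g₀ (D.map ψ)
  have hv : IsPullback v g₁ g₀ (D.map ψ) := IsPullback.of_hasPullback _ _
  have key : R (pullback.snd f₀ v) (pullback.fst g₁ (c.π.app i₁)) := by
    refine main_case D c hc i₁ (pullback.snd f₀ v) g₁ fun j φ => ?_
    rw [← R.iff_base]
    have h1 : IsPullback (pullback.fst g₁ (D.map φ) ≫ v) (pullback.snd g₁ (D.map φ)) g₀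
        (D.map (φ ≫ ψ)) := by
      rw [D.map_comp]
      exact (IsPullback.paste_vert (IsPullback.of_hasPullback g₁ (D.map φ)).flip hv.flip).flip
    have h2 := h j φ
    rw [← Category.comp_id (pullback.fst g₀ (D.map (φ ≫ ψ))), ← R.iff_paste h1,
      Category.comp_id] at h2
    exact h2
  rw [← R.iff_base] at key
  have h1 : IsPullback (pullback.fst g₁ (c.π.app i₁) ≫ v) (pullback.snd g₁ (c.π.app i₁)) g₀
      (c.π.app i₀) := by
    have := (IsPullback.paste_vert (IsPullback.of_hasPullback g₁ (c.π.app i₁)).flip hv.flip).flip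
    rwa [c.w] at this
  rw [← Category.comp_id (pullback.fst g₀ (c.π.app i₀)), ← R.iff_paste h1, Category.comp_id]
  exact key

end K835.LimSS
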