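import Groth.Agent.Sga1.UnivSub
import Groth.Agent.FlatA.UnivHomeo
import Mathlib.AlgebraicGeometry.IdealSheaf.Subscheme
import Mathlib.AlgebraicGeometry.Morphisms.Separated
import Mathlib.AlgebraicGeometry.Morphisms.Affine
import Mathlib.AlgebraicGeometry.ResidueField

/-!
# The universal homeomorphism through which a morphism descends up to nilpotents
-/

set_option autoImplicit false
open CategoryTheory CategoryTheory.Limits AlgebraicGeometry TopologicalSpace
universe u

namespace K835.WeakFactor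

theorem toImage_app_injective {X Y : Scheme.{u}} (f : X ⟶ Y) [QuasiCompact f]
    (U : f.image.Opens) : Function.Injective (f.toImage.app U) := by
  have h := f.stalkFunctor_toImage_injective
  exact TopCat.Presheaf.app_injective_of_stalkFunctor_map_injective (F := f.image.sheaf)
    f.toImage.c U (fun x _ => h x)

/-- an injective quotient map is a homeomorphism -/
theorem isHomeomorph_of_isQuotientMap {X Y : Type*} [TopologicalSpace X] [TopologicalSpace Y]
    {f : X → Y} (hf : Topology.IsQuotientMap f) (hi : Function.Injective f) : IsHomeomorph f where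
  continuous := hf.continuous
  isOpenMap := fun U hU => by
    rw [← hf.isOpen_preimage, Set.preimage_image_eq _ hi]
    exact hU
  bijective := ⟨hi, hf.surjective⟩

section

variable {Z T T' : Scheme.{u}} (p : T' ⟶ T) (h : T' ⟶ Z) (π : Z ⟶ T)
  (hp : SGA1.UnivSubmersive p) (hπ : h ≫ π = p)
  (heq : ∀ (W : Scheme.{u}) [IsReduced W] (a b : W ⟶ T'), a ≫ p = b ≫ p → a ≫ h = b ≫ h)

include heq in
/-- `h` is constant on the fibres of `p` -/
theorem sat {a b : T'} (hab : p a = p b) : h a = h b := by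
  obtain ⟨c, hc1, hc2⟩ := Scheme.Pullback.exists_preimage_pullback a b hab
  let k := (pullback p p).fromSpecResidueField c
  have h1 := heq (Spec ((pullback p p).residueField c)) (k ≫ pullback.fst p p)
    (k ≫ pullback.snd p p) (by rw [Category.assoc, pullback.condition, Category.assoc])
  have h2 : ((k ≫ pullback.fst p p) ≫ h) (default) = ((k ≫ pullback.snd p p) ≫ h) (default) := by
    rw [h1]
  have hk : k default = c := Scheme.fromSpecResidueField_apply _ _
  rw [Scheme.Hom.comp_apply, Scheme.Hom.comp_apply, Scheme.Hom.comp_apply,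
    Scheme.Hom.comp_apply, hk, hc1, hc2] at h2
  exact h2

include heq hp hπ in
/-- The image of `h` is closed in good charts. -/
theorem isClosed_range {V : T.Opens} {W : Z.Opens} (hW : IsAffineOpen W) (hWV : W ≤ π ⁻¹ᵁ V)
    (hVW : p ⁻¹ᵁ V ≤ h ⁻¹ᵁ W) : IsClosed (W.ι ⁻¹' Set.range h) := by
  have : IsAffine W := hW
  let w : (W : Scheme.{u}) ⟶ T := W.ι ≫ π
  let Y := pullback p w
  have hY : Set.range (pullback.fst p w ≫ h) ⊆ Set.range W.ι := by
    rintro _ ⟨y, rfl⟩
    rw [Scheme.Opens.range_ι, Scheme.Hom.comp_apply]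
    apply hVW
    change p (pullback.fst p w y) ∈ V
    rw [← Scheme.Hom.comp_apply, pullback.condition, Scheme.Hom.comp_apply]
    exact hWV (pullback.snd p w y).2
  let k : Y ⟶ W := IsOpenImmersion.lift W.ι (pullback.fst p w ≫ h) hY
  have hk : k ≫ W.ι = pullback.fst p w ≫ h := IsOpenImmersion.lift_fac _ _ _
  have hq : Topology.IsQuotientMap (pullback.snd p w) := Groth.Agent.Sga1.UnivSub.isQuotientMap
    (Groth.Agent.Sga1.UnivSub.of_isPullback (IsPullback.of_hasPullback p w).flip hp)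
  rw [← hq.isClosed_preimage]
  have hE : IsClosed (Set.range (equalizer.ι k (pullback.snd p w))) :=
    (equalizer.ι k (pullback.snd p w)).isClosedEmbedding.isClosed_range
  convert hE using 1
  ext e
  constructor
  · rintro ⟨b, hb⟩
    -- a common point
    let P := pullback h (pullback.snd p w ≫ W.ι)
    obtain ⟨c, hc1, hc2⟩ := Scheme.Pullback.exists_preimage_pullback (f := h)
      (g := pullback.snd p w ≫ W.ι) b e (by rw [Scheme.Hom.comp_apply]; exact hb)
    obtain ⟨r, hr⟩ : ∃ r : Spec (P.residueField c) ⟶ P, r default = c :=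
      ⟨P.fromSpecResidueField c, Scheme.fromSpecResidueField_apply _ _⟩
    obtain ⟨bb, hbb⟩ : ∃ b, b = r ≫ pullback.fst h (pullback.snd p w ≫ W.ι) := ⟨_, rfl⟩
    obtain ⟨ee, hee⟩ : ∃ b, b = r ≫ pullback.snd h (pullback.snd p w ≫ W.ι) := ⟨_, rfl⟩
    have hbe : bb ≫ h = ee ≫ pullback.snd p w ≫ W.ι := by
      rw [hbb, hee, Category.assoc, Category.assoc, pullback.condition]
    have h1 : (ee ≫ pullback.fst p w) ≫ p = bb ≫ p := by
      have e1 : bb ≫ p = (bb ≫ h) ≫ π := by rw [Category.assoc, hπ]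
      rw [e1, hbe, Category.assoc, pullback.condition, Category.assoc, Category.assoc]
    have h2 := heq _ (ee ≫ pullback.fst p w) bb h1
    have h3 : ee ≫ k = ee ≫ pullback.snd p w := by
      rw [← cancel_mono W.ι, Category.assoc, Category.assoc, hk, ← hbe, ← h2, Category.assoc]
    have h4 : equalizer.lift ee h3 ≫ equalizer.ι _ _ = ee := equalizer.lift_ι _ _
    refine ⟨equalizer.lift ee h3 default, ?_⟩
    rw [← Scheme.Hom.comp_apply, h4, hee, Scheme.Hom.comp_apply, hr, hc2]
  · rintro ⟨x, rfl⟩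
    refine ⟨pullback.fst p w (equalizer.ι k (pullback.snd p w) x), ?_⟩
    have h1 : (equalizer.ι k (pullback.snd p w) ≫ k) x =
      (equalizer.ι k (pullback.snd p w) ≫ pullback.snd p w) x := by rw [equalizer.condition]
    rw [Scheme.Hom.comp_apply, Scheme.Hom.comp_apply] at h1
    rw [← h1, ← Scheme.Hom.comp_apply, ← hk, Scheme.Hom.comp_apply]

/-- good charts -/
def Good (V : T.Opens) (W : Z.Opens) : Prop :=
  IsAffineOpen V ∧ IsAffineOpen W ∧ W ≤ π ⁻¹ᵁ V ∧ p ⁻¹ᵁ V ≤ h ⁻¹ᵁ W

include heq hp hπ in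
theorem exists_good (t : T) : ∃ (V : T.Opens) (W : Z.Opens), t ∈ V ∧ Good p h π V W := by
  have hq := Groth.Agent.Sga1.UnivSub.isQuotientMap hp
  obtain ⟨a, rfl⟩ := hq.surjective t
  have hpa : π (h a) = p a := by rw [← Scheme.Hom.comp_apply, hπ]
  obtain ⟨V, hV, haV, -⟩ := exists_isAffineOpen_mem_and_subset (x := p a) (U := ⊤) trivial
  obtain ⟨W, hW, haW, hWV⟩ := exists_isAffineOpen_mem_and_subset (x := h a) (U := π ⁻¹ᵁ V)
    (by change π (h a) ∈ V; rw [hpa]; exact haV)
  -- the open image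
  have hpre : p ⁻¹' (p '' (h ⁻¹ᵁ W : T'.Opens)) = (h ⁻¹ᵁ W : T'.Opens) := by
    apply subset_antisymm
    · rintro b ⟨b', hb', hbb⟩
      change h b ∈ W
      rw [sat p h heq (show p b = p b' from hbb.symm)]
      exact hb'
    · exact Set.subset_preimage_image _ _
  have hopen : IsOpen (p '' (h ⁻¹ᵁ W : T'.Opens) : Set T) := by
    rw [← hq.isOpen_preimage]
    rw [hpre]
    exact (h ⁻¹ᵁ W).2
  obtain ⟨f, hf, haf⟩ := hV.exists_basicOpen_le (V := ⟨_, hopen⟩) ⟨p a, ⟨a, haW, rfl⟩⟩ haV
  refine ⟨T.basicOpen f, Z.basicOpen (π.appLE V W hWV f), haf, hV.basicOpen f,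
    hW.basicOpen _, ?_, ?_⟩
  · rw [Scheme.basicOpen_appLE]
    exact inf_le_right
  · rw [Scheme.basicOpen_appLE]
    intro b hb
    have hb' : p b ∈ T.basicOpen f := hb
    obtain ⟨b', hb1, hb2⟩ := hf hb'
    refine ⟨?_, ?_⟩
    · change h b ∈ W
      rw [sat p h heq (show p b = p b' from hb2.symm)]
      exact hb1
    · change π (h b) ∈ T.basicOpen f
      rw [← Scheme.Hom.comp_apply, hπ]
      exact hb'

/-- the open subset -/
def UU : Z.Opens := ⨆ x : {x : T.Opens × Z.Opens // Good p h π x.1 x.2}, x.1.2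

variable {p h π} in
theorem le_UU {V : T.Opens} {W : Z.Opens} (hVW : Good p h π V W) : W ≤ UU p h π :=
  le_iSup (fun x : {x : T.Opens × Z.Opens // Good p h π x.1 x.2} => x.1.2) ⟨⟨V, W⟩, hVW⟩

variable {p h π} in
theorem exists_of_mem_UU {z : Z} (hz : z ∈ UU p h π) : ∃ V W, Good p h π V W ∧ z ∈ W := by
  obtain ⟨⟨⟨V, W⟩, hx⟩, hzx⟩ := Opens.mem_iSup.mp hz
  exact ⟨V, W, hx, hzx⟩

include heq hp hπ in
theorem exists_factor [QuasiCompact p] [QuasiSeparated π] :
    ∃ (T₁ : Scheme.{u}) (q : T' ⟶ T₁) (u : T₁ ⟶ T) (k : T₁ ⟶ Z), q ≫ u = p ∧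
      (∀ U : T₁.Opens, Function.Injective (q.app U).hom) ∧ FlatMor.IsUnivHomeo u ∧ IsSeparated u ∧
      q ≫ k = h ∧ k ≫ π = u := by
  have hrange : Set.range h ⊆ Set.range (UU p h π).ι := by
    rintro _ ⟨a, rfl⟩
    rw [Scheme.Opens.range_ι]
    obtain ⟨V, W, hV, hVW⟩ := exists_good p h π hp hπ heq (p a)
    exact le_UU hVW (hVW.2.2.2 hV)
  let h' : T' ⟶ UU p h π := IsOpenImmersion.lift (UU p h π).ι h hrange
  have hh' : h' ≫ (UU p h π).ι = h := IsOpenImmersion.lift_fac _ _ _
  have hqc : QuasiCompact h := by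
    have : QuasiCompact (h ≫ π) := by rw [hπ]; infer_instance
    exact QuasiCompact.of_comp h π
  have hqc' : QuasiCompact h' := by
    have : QuasiCompact (h' ≫ (UU p h π).ι) := by rw [hh']; infer_instance
    exact QuasiCompact.of_comp h' (UU p h π).ι
  -- the image is closed
  have hcl : IsClosed (Set.range h') := by
    rw [← isOpen_compl_iff, isOpen_iff_mem_nhds]
    intro x hx
    obtain ⟨V, W, hVW, hxW⟩ := exists_of_mem_UU x.2
    have h1 := isClosed_range p h π hp hπ heq hVW.2.1 hVW.2.2.1 hVW.2.2.2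
    have h2 : IsOpen (W.ι '' (W.ι ⁻¹' Set.range h)ᶜ) := W.ι.isOpenEmbedding.isOpenMap _ h1.isOpen_compl
    have h3 : IsOpen ((UU p h π).ι ⁻¹' (W.ι '' (W.ι ⁻¹' Set.range h)ᶜ)) :=
      h2.preimage (UU p h π).ι.continuous
    refine Filter.mem_of_superset (h3.mem_nhds ?_) ?_
    · refine ⟨⟨x.1, hxW⟩, ?_, rfl⟩
      rintro ⟨a, ha⟩
      apply hx
      refine ⟨a, (UU p h π).ι.isOpenEmbedding.injective ?_⟩
      rw [← Scheme.Hom.comp_apply, hh']
      exact ha
    · rintro y ⟨w, hw, hwy⟩ ⟨a, rfl⟩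
      apply hw
      refine ⟨a, ?_⟩
      rw [hwy, ← Scheme.Hom.comp_apply, hh']
  have hrι : Set.range h'.imageι = Set.range h' := by
    rw [Scheme.IdealSheafData.range_subschemeι, Scheme.Hom.support_ker, hcl.closure_eq]
  have hqs : Surjective h'.toImage := ⟨fun x => by
    have : h'.imageι x ∈ Set.range h' := hrι ▸ ⟨x, rfl⟩
    obtain ⟨a, ha⟩ := this
    refine ⟨a, h'.imageι.isClosedEmbedding.injective ?_⟩
    rw [← Scheme.Hom.comp_apply, h'.toImage_imageι, ha]⟩
  let u : h'.image ⟶ T := h'.imageι ≫ (UU p h π).ι ≫ π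
  have hqu : h'.toImage ≫ u = p := by
    simp only [u]
    rw [h'.toImage_imageι_assoc, ← Category.assoc, hh', hπ]
  have hqk : h'.toImage ≫ h'.imageι ≫ (UU p h π).ι = h := by
    rw [h'.toImage_imageι_assoc, hh']
  -- affine
  have hu : IsAffineHom u := by
    refine isAffineHom_of_forall_exists_isAffineOpen u fun t => ?_
    obtain ⟨V, W, htV, hVW⟩ := exists_good p h π hp hπ heq t
    refine ⟨V, htV, hVW.1, ?_⟩
    have e : u ⁻¹ᵁ V = h'.imageι ⁻¹ᵁ ((UU p h π).ι ⁻¹ᵁ W) := by
      apply le_antisymm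
      · intro x hx
        obtain ⟨a, rfl⟩ := hqs.surj x
        have h1 : p a ∈ V := by
          rw [← hqu, Scheme.Hom.comp_apply]
          exact hx
        change (UU p h π).ι (h'.imageι (h'.toImage a)) ∈ W
        rw [← Scheme.Hom.comp_apply, ← Scheme.Hom.comp_apply, hqk]
        exact hVW.2.2.2 h1
      · intro x hx
        exact hVW.2.2.1 hx
    rw [e]
    have h1 : IsAffineOpen ((UU p h π).ι ⁻¹ᵁ W) := hVW.2.1.preimage_of_isOpenImmersion _ (by
      rw [Scheme.Opens.opensRange_ι]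
      exact le_UU hVW)
    exact h1.preimage h'.imageι
  -- universally injective
  have huinj : UniversallyInjective u := by
    rw [UniversallyInjective.iff_diagonal]
    refine ⟨fun c => ?_⟩
    let a₁ := pullback.fst u u
    let a₂ := pullback.snd u u
    let P₁ := pullback h'.toImage a₁
    let P₂ := pullback h'.toImage (pullback.snd h'.toImage a₁ ≫ a₂)
    obtain ⟨c₁, hc₁⟩ := (pullback.snd h'.toImage a₁).surjective c
    obtain ⟨c₂, hc₂⟩ := (pullback.snd h'.toImage (pullback.snd h'.toImage a₁ ≫ a₂)).surjective c₁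
    obtain ⟨r, hr⟩ : ∃ r : Spec (P₂.residueField c₂) ⟶ P₂, r default = c₂ :=
      ⟨P₂.fromSpecResidueField c₂, Scheme.fromSpecResidueField_apply _ _⟩
    obtain ⟨m, hm⟩ : ∃ m, m = r ≫ pullback.snd h'.toImage (pullback.snd h'.toImage a₁ ≫ a₂) ≫
      pullback.snd h'.toImage a₁ := ⟨_, rfl⟩
    obtain ⟨b₁, hb₁⟩ : ∃ b, b = r ≫ pullback.snd h'.toImage (pullback.snd h'.toImage a₁ ≫ a₂) ≫
      pullback.fst h'.toImage a₁ := ⟨_, rfl⟩
    obtain ⟨b₂, hb₂⟩ : ∃ b, b = r ≫ pullback.fst h'.toImage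
      (pullback.snd h'.toImage a₁ ≫ a₂) := ⟨_, rfl⟩
    have hm₁ : m ≫ a₁ = b₁ ≫ h'.toImage := by
      rw [hm, hb₁]
      simp only [Category.assoc, pullback.condition]
    have hm₂ : m ≫ a₂ = b₂ ≫ h'.toImage := by
      rw [hm, hb₂]
      simp only [Category.assoc, pullback.condition]
    have hb : b₁ ≫ p = b₂ ≫ p := by
      have e1 : b₁ ≫ p = (m ≫ a₁) ≫ u := by rw [hm₁, Category.assoc, hqu]
      have e2 : b₂ ≫ p = (m ≫ a₂) ≫ u := by rw [hm₂, Category.assoc, hqu]
      rw [e1, e2, Category.assoc, Category.assoc]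
      exact congrArg (m ≫ ·) pullback.condition
    have hbh := heq _ b₁ b₂ hb
    have hbq : b₁ ≫ h'.toImage = b₂ ≫ h'.toImage := by
      rw [← cancel_mono (h'.imageι ≫ (UU p h π).ι), Category.assoc, Category.assoc, hqk, hbh]
    have hmd : m = (b₁ ≫ h'.toImage) ≫ pullback.diagonal u := by
      apply pullback.hom_ext
      · rw [Category.assoc, pullback.diagonal_fst, Category.comp_id]
        exact hm₁
      · rw [Category.assoc, pullback.diagonal_snd, Category.comp_id, hbq]
        exact hm₂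
    refine ⟨(b₁ ≫ h'.toImage) default, ?_⟩
    rw [← Scheme.Hom.comp_apply, ← hmd, hm]
    simp only [Scheme.Hom.comp_apply]
    rw [hr]
    exact (congrArg _ hc₂).trans hc₁
  have hhomeo : FlatMor.IsUnivHomeo u := by
    intro X' Y' i₁ i₂ f' sq
    have e2 : UniversallyInjective f' := MorphismProperty.of_isPullback sq.flip huinj
    have sq' : IsPullback (pullback.fst h'.toImage i₁) (pullback.snd h'.toImage i₁ ≫ f') p i₂ := by
      have := (IsPullback.of_hasPullback h'.toImage i₁).paste_vert sq.flip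
      rwa [hqu] at this
    have hQ : Topology.IsQuotientMap (pullback.snd h'.toImage i₁ ≫ f') :=
      Groth.Agent.Sga1.UnivSub.isQuotientMap (Groth.Agent.Sga1.UnivSub.of_isPullback sq'.flip hp)
    have hQ' : Topology.IsQuotientMap (f' ∘ pullback.snd h'.toImage i₁) := by
      have e : (⇑(pullback.snd h'.toImage i₁ ≫ f')) = f' ∘ pullback.snd h'.toImage i₁ := by
        ext x
        rw [Scheme.Hom.comp_apply]
        rfl
      rwa [e] at hQ
    exact isHomeomorph_of_isQuotientMap
      (Topology.IsQuotientMap.of_comp (pullback.snd h'.toImage i₁).continuous f'.continuous hQ')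
      f'.injective
  exact ⟨h'.image, h'.toImage, u, h'.imageι ≫ (UU p h π).ι, hqu,
    fun U => toImage_app_injective h' U, hhomeo, inferInstance, hqk, by simp only [u, Category.assoc]⟩

end

end K835.WeakFactor
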