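import Groth.Agent.FlatA.UnivHomeo
import Groth.Agent.Pi1.H394.WEReduced
import Mathlib.RingTheory.Smooth.IntegralClosure
import Mathlib.FieldTheory.IsAlgClosed.AlgebraicClosure
import Mathlib.RingTheory.TensorProduct.Basic
import Mathlib.RingTheory.Flat.Basic

/-!
# Weak subintegral closure
-/

set_option autoImplicit false
open AlgebraicGeometry CategoryTheory TensorProduct
universe u

namespace K835.Subint

section FieldPoints

variable {A B : Type u} [CommRing A] [CommRing B] (φ : A →+* B)

/-- `φ` is an epimorphism with respect to fields -/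
def FP : Prop := ∀ (K : Type u) [Field K] (g₁ g₂ : B →+* K), g₁.comp φ = g₂.comp φ → g₁ = g₂

theorem univInj_iff : UniversallyInjective (Spec.map (CommRingCat.ofHom φ)) ↔ FP φ := by
  rw [((tfae_universallyInjective (Spec.map (CommRingCat.ofHom φ))).out 0 1 :)]
  constructor
  · intro h K _ g₁ g₂ h12
    have h3 : Spec.map (CommRingCat.ofHom g₁) = Spec.map (CommRingCat.ofHom g₂) := by
      apply h K
      change Spec.map (CommRingCat.ofHom g₁) ≫ Spec.map (CommRingCat.ofHom φ) =
        Spec.map (CommRingCat.ofHom g₂) ≫ Spec.map (CommRingCat.ofHom φ)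
      rw [← Spec.map_comp, ← Spec.map_comp, ← CommRingCat.ofHom_comp, ← CommRingCat.ofHom_comp,
        h12]
    exact congrArg CommRingCat.Hom.hom (Spec.map_injective h3)
  · intro h K _ g₁ g₂ h12
    obtain ⟨g₁, rfl⟩ := Spec.map_surjective g₁
    obtain ⟨g₂, rfl⟩ := Spec.map_surjective g₂
    dsimp only at h12
    rw [← Spec.map_comp, ← Spec.map_comp] at h12
    have h3 := Spec.map_injective h12
    have h4 := h K g₁.hom g₂.hom (congrArg CommRingCat.Hom.hom h3)
    rw [CommRingCat.hom_ext h4]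

theorem isUnivHomeo_iff : FlatMor.IsUnivHomeo (Spec.map (CommRingCat.ofHom φ)) ↔
    φ.IsIntegral ∧ RingHom.ker φ ≤ nilradical A ∧ FP φ := by
  rw [Groth.Agent.FlatA.UnivHomeo.isUnivHomeo_iff, IsIntegralHom.SpecMap_iff, univInj_iff]
  constructor
  · rintro ⟨h1, h2, h3⟩
    refine ⟨h1, ?_, h2⟩
    intro x hx
    rw [mem_nilradical, nilpotent_iff_mem_prime]
    intro J hJ
    obtain ⟨q, hq⟩ := h3.surj (⟨J, hJ⟩ : PrimeSpectrum A)
    have hq' : PrimeSpectrum.comap φ q = ⟨J, hJ⟩ := hq
    have : x ∈ (PrimeSpectrum.comap φ q).asIdeal := by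
      change φ x ∈ q.asIdeal
      rw [(RingHom.mem_ker (f := φ)).mp hx]
      exact zero_mem _
    rwa [hq'] at this
  · rintro ⟨h1, h2, h3⟩
    refine ⟨h1, h3, ⟨?_⟩⟩
    change Function.Surjective (PrimeSpectrum.comap φ)
    have h4 : φ.kerLift.IsIntegral := by
      intro x
      obtain ⟨q, hq, hq'⟩ := h1 x
      refine ⟨q.map (Ideal.Quotient.mk _), hq.map _, ?_⟩
      rw [Polynomial.eval₂_map]
      exact hq'
    exact (PrimeSpectrum.comap_quotientMk_bijective_of_le_nilradical h2).2.comp <|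
      h4.comap_surjective φ.kerLift_injective

end FieldPoints

/-- Extension of a point along an integral extension. -/
theorem exists_extension {Ω : Type u} [Field Ω] [IsAlgClosed Ω] {A B : Type u} [CommRing A]
    [CommRing B] [Algebra A B] (hinj : Function.Injective (algebraMap A B))
    [Algebra.IsIntegral A B] (ψ : A →+* Ω) :
    ∃ g : B →+* Ω, g.comp (algebraMap A B) = ψ := by
  have hfs : FaithfulSMul A B := (faithfulSMul_iff_algebraMap_injective A B).mpr hinj
  set P := RingHom.ker ψ with hP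
  have hPp : P.IsPrime := RingHom.ker_isPrime ψ
  obtain ⟨Q, hQ⟩ := Algebra.IsIntegral.comap_surjective (R := A) (S := B) ⟨P, hPp⟩
  have hQ' : Q.asIdeal.comap (algebraMap A B) = P := congrArg PrimeSpectrum.asIdeal hQ
  have : Q.asIdeal.LiesOver P := ⟨hQ'.symm⟩
  let _ : Algebra (A ⧸ P) Ω := (Ideal.Quotient.lift P ψ (fun _ h => h)).toAlgebra
  have h1 : FaithfulSMul (A ⧸ P) Ω := by
    rw [faithfulSMul_iff_algebraMap_injective]
    exact RingHom.lift_injective_of_ker_le_ideal P (fun _ h => h) le_rfl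
  have h2 : Algebra.IsIntegral (A ⧸ P) (B ⧸ Q.asIdeal) := inferInstance
  have h3 : Algebra.IsAlgebraic (A ⧸ P) (B ⧸ Q.asIdeal) := inferInstance
  let g : (B ⧸ Q.asIdeal) →ₐ[A ⧸ P] Ω := IsAlgClosed.lift
  refine ⟨g.toRingHom.comp (Ideal.Quotient.mk Q.asIdeal), ?_⟩
  refine RingHom.ext fun a => ?_
  change g (Ideal.Quotient.mk Q.asIdeal (algebraMap A B a)) = ψ a
  have : Ideal.Quotient.mk Q.asIdeal (algebraMap A B a) =
      algebraMap (A ⧸ P) (B ⧸ Q.asIdeal) (Ideal.Quotient.mk P a) := rfl
  rw [this, AlgHom.commutes]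
  rfl

section

variable {A B : Type u} [CommRing A] [CommRing B] [Algebra A B]

/-- nilpotency of `b ⊗ 1 - 1 ⊗ b` in terms of field-valued points -/
theorem isNilpotent_iff (b : B) : IsNilpotent (b ⊗ₜ[A] (1 : B) - (1 : B) ⊗ₜ[A] b) ↔
    ∀ (K : Type u) [Field K] (g₁ g₂ : B →+* K),
      g₁.comp (algebraMap A B) = g₂.comp (algebraMap A B) → g₁ b = g₂ b := by
  constructor
  · intro h K _ g₁ g₂ h12
    let _ : Algebra A K := (g₁.comp (algebraMap A B)).toAlgebra
    let k₁ : B →ₐ[A] K := { g₁ with commutes' := fun _ => rfl }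
    let k₂ : B →ₐ[A] K := { g₂ with commutes' := fun a => (RingHom.congr_fun h12 a).symm }
    let v : B ⊗[A] B →ₐ[A] K := Algebra.TensorProduct.lift k₁ k₂ fun _ _ => mul_comm _ _
    have h1 := h.map v
    rw [isNilpotent_iff_eq_zero, map_sub, Algebra.TensorProduct.lift_tmul,
      Algebra.TensorProduct.lift_tmul, map_one, map_one, mul_one, one_mul, sub_eq_zero] at h1
    exact h1
  · intro h
    rw [nilpotent_iff_mem_prime]
    intro J hJ
    let q : B ⊗[A] B →+* J.ResidueField := algebraMap _ _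
    have h1 := h J.ResidueField (q.comp (algebraMap B (B ⊗[A] B)))
      (q.comp (Algebra.TensorProduct.includeRight : B →ₐ[A] B ⊗[A] B).toRingHom) (by
        ext a
        change q (algebraMap A B a ⊗ₜ 1) = q (1 ⊗ₜ algebraMap A B a)
        congr 1
        rw [Algebra.algebraMap_eq_smul_one a, TensorProduct.smul_tmul])
    have h2 : q (b ⊗ₜ[A] (1 : B) - (1 : B) ⊗ₜ[A] b) = 0 := by
      rw [map_sub, sub_eq_zero]
      exact h1
    rwa [Ideal.algebraMap_residueField_eq_zero] at h2

variable (hinj : Function.Injective (algebraMap A B)) [Algebra.IsIntegral A B]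
    (C : Subalgebra A B)
    (hC : FlatMor.IsUnivHomeo (Spec.map (CommRingCat.ofHom (algebraMap A C))))
    (hmax : ∀ D : Subalgebra A B,
      FlatMor.IsUnivHomeo (Spec.map (CommRingCat.ofHom (algebraMap A D))) → D ≤ C)

include hC in
omit [Algebra.IsIntegral A B] in
theorem isNilpotent_of_mem {b : B} (hb : b ∈ C) :
    IsNilpotent (b ⊗ₜ[A] (1 : B) - (1 : B) ⊗ₜ[A] b) := by
  rw [isNilpotent_iff]
  intro K _ g₁ g₂ h12
  have h := ((isUnivHomeo_iff _).mp hC).2.2 K (g₁.comp C.val.toRingHom) (g₂.comp C.val.toRingHom) (by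
    ext a
    exact RingHom.congr_fun h12 a)
  exact RingHom.congr_fun h ⟨b, hb⟩

include hinj in
/-- the subalgebra generated by an element `b` with `b ⊗ 1 - 1 ⊗ b` nilpotent -/
theorem isUnivHomeo_adjoin {b : B} (hb : IsNilpotent (b ⊗ₜ[A] (1 : B) - (1 : B) ⊗ₜ[A] b)) :
    FlatMor.IsUnivHomeo (Spec.map (CommRingCat.ofHom (algebraMap A (Algebra.adjoin A {b})))) := by
  rw [isNilpotent_iff] at hb
  set D := Algebra.adjoin A {b} with hD
  have hint : Algebra.IsIntegral A D := Algebra.IsIntegral.of_injective D.val Subtype.val_injective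
  have hDB : Algebra.IsIntegral D B := Algebra.IsIntegral.tower_top A
  rw [isUnivHomeo_iff]
  refine ⟨algebraMap_isIntegral_iff.mpr hint, ?_, ?_⟩
  · rw [(RingHom.injective_iff_ker_eq_bot _).mp]
    · exact bot_le
    · have : Function.Injective (algebraMap D B ∘ algebraMap A D) := hinj
      exact Function.Injective.of_comp this
  · intro K _ g₁ g₂ h12
    let L := AlgebraicClosure K
    obtain ⟨k₁, hk₁⟩ := exists_extension (A := D) (B := B) (Ω := L) Subtype.val_injective
      ((algebraMap K L).comp g₁)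
    obtain ⟨k₂, hk₂⟩ := exists_extension (A := D) (B := B) (Ω := L) Subtype.val_injective
      ((algebraMap K L).comp g₂)
    have h1 : k₁ b = k₂ b := hb L k₁ k₂ (by
      ext a
      have e1 := RingHom.congr_fun hk₁ (algebraMap A D a)
      have e2 := RingHom.congr_fun hk₂ (algebraMap A D a)
      have e3 := RingHom.congr_fun h12 a
      change k₁ (algebraMap A B a) = algebraMap K L (g₁ (algebraMap A D a)) at e1
      change k₂ (algebraMap A B a) = algebraMap K L (g₂ (algebraMap A D a)) at e2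
      change g₁ (algebraMap A D a) = g₂ (algebraMap A D a) at e3
      change k₁ (algebraMap A B a) = k₂ (algebraMap A B a)
      rw [e1, e2, e3])
    have h2 : ∀ (x : B) (hx : x ∈ D), g₁ ⟨x, hx⟩ = g₂ ⟨x, hx⟩ := by
      intro x hx
      have key : k₁ x = k₂ x := by
        induction hx using Algebra.adjoin_induction with
        | mem y hy => rw [Set.mem_singleton_iff.mp hy]; exact h1
        | algebraMap r =>
          have e1 := RingHom.congr_fun hk₁ (algebraMap A D r)
          have e2 := RingHom.congr_fun hk₂ (algebraMap A D r)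
          have e3 := RingHom.congr_fun h12 r
          change k₁ (algebraMap A B r) = algebraMap K L (g₁ (algebraMap A D r)) at e1
          change k₂ (algebraMap A B r) = algebraMap K L (g₂ (algebraMap A D r)) at e2
          change g₁ (algebraMap A D r) = g₂ (algebraMap A D r) at e3
          rw [e1, e2, e3]
        | add x y _ _ hx hy => rw [map_add, map_add, hx, hy]
        | mul x y _ _ hx hy => rw [map_mul, map_mul, hx, hy]
      have e1 := RingHom.congr_fun hk₁ ⟨x, hx⟩
      have e2 := RingHom.congr_fun hk₂ ⟨x, hx⟩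
      change k₁ x = algebraMap K L (g₁ ⟨x, hx⟩) at e1
      change k₂ x = algebraMap K L (g₂ ⟨x, hx⟩) at e2
      rw [e1, e2] at key
      exact (algebraMap K L).injective key
    ext x
    exact h2 x.1 x.2

include hinj hC hmax in
theorem mem_iff (b : B) : b ∈ C ↔ IsNilpotent (b ⊗ₜ[A] (1 : B) - (1 : B) ⊗ₜ[A] b) :=
  ⟨isNilpotent_of_mem C hC, fun h => hmax _ (isUnivHomeo_adjoin hinj h)
    (Algebra.subset_adjoin rfl)⟩

end

end K835.Subint
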