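import Groth.Agent.Subtr.K835.Subint
import Groth.Agent.Proet.WEtale2
import Mathlib.RingTheory.Flat.Equalizer

/-!
# Weak subintegral closure commutes with localizations and étale base change
-/

set_option autoImplicit false
open AlgebraicGeometry CategoryTheory TensorProduct
universe u

namespace K835.Subint

section

variable {A B A' : Type u} [CommRing A] [CommRing B] [CommRing A'] [Algebra A B] [Algebra A A']

/-- A weakly étale base change of a reduced ring is reduced. -/
theorem isReduced_baseChange [Algebra.WeaklyEtale A A'] (Q : Type u) [CommRing Q] [Algebra A Q]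
    [IsReduced Q] : IsReduced (A' ⊗[A] Q) := by
  have h1 : IsReduced (Q ⊗[A] A') :=
    Groth.Agent.Pi1.H394.WEReduced.isReduced_of_weaklyEtale Q (Q ⊗[A] A')
  exact isReduced_of_injective (Algebra.TensorProduct.comm A A' Q)
    (Algebra.TensorProduct.comm A A' Q).injective

/-- transport along an isomorphism of algebras -/
theorem isUnivHomeo_of_algEquiv {D D' : Type u} [CommRing D] [CommRing D'] [Algebra A D]
    [Algebra A D'] (e : D ≃ₐ[A] D')
    (h : FlatMor.IsUnivHomeo (Spec.map (CommRingCat.ofHom (algebraMap A D)))) :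
    FlatMor.IsUnivHomeo (Spec.map (CommRingCat.ofHom (algebraMap A D'))) := by
  rw [isUnivHomeo_iff] at h ⊢
  obtain ⟨h1, h2, h3⟩ := h
  have he : (e : D →+* D').comp (algebraMap A D) = algebraMap A D' := by
    ext a
    exact e.commutes a
  refine ⟨?_, ?_, ?_⟩
  · rw [← he]
    exact h1.trans _ _ (RingHom.isIntegral_of_surjective _ e.surjective)
  · rw [← he]
    intro x hx
    apply h2
    rw [RingHom.mem_ker] at hx ⊢
    exact e.injective (hx.trans (map_zero e).symm)
  · intro K _ g₁ g₂ h12
    have h4 := h3 K (g₁.comp (e : D →+* D')) (g₂.comp (e : D →+* D')) (by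
      rw [RingHom.comp_assoc, RingHom.comp_assoc, he, h12])
    ext x
    obtain ⟨y, rfl⟩ := e.surjective x
    exact RingHom.congr_fun h4 y

/-- two algebra maps to a reduced ring agree on an element on which field-valued points agree -/
theorem eq_of_fields {R S T : Type u} [CommRing R] [CommRing S] [CommRing T] [Algebra R S]
    [Algebra R T] [IsReduced T] (u₁ u₂ : S →ₐ[R] T) (y : S)
    (h : ∀ (K : Type u) [Field K] (g₁ g₂ : S →+* K),
      g₁.comp (algebraMap R S) = g₂.comp (algebraMap R S) → g₁ y = g₂ y) : u₁ y = u₂ y := by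
  refine sub_eq_zero.mp (IsReduced.eq_zero _ ?_)
  rw [nilpotent_iff_mem_prime]
  intro J hJ
  let k : T →+* J.ResidueField := algebraMap _ _
  have h5 := h J.ResidueField (k.comp u₁.toRingHom) (k.comp u₂.toRingHom) (by
    refine RingHom.ext fun a => ?_
    change k (u₁ (algebraMap R _ a)) = k (u₂ (algebraMap R _ a))
    rw [u₁.commutes, u₂.commutes])
  change k (u₁ y) = k (u₂ y) at h5
  have h7 : k (u₁ y - u₂ y) = 0 := by rw [map_sub, h5, sub_self]
  rwa [Ideal.algebraMap_residueField_eq_zero] at h7

omit [CommRing B] [Algebra A B] in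
/-- the kernel of the difference of two maps to a reduced ring -/
theorem mem_range_lTensor [Module.Flat A A'] [Algebra.WeaklyEtale A A'] {B₁ Q : Type u}
    [CommRing B₁] [Algebra A B₁] [CommRing Q] [Algebra A Q] [IsReduced Q] (d₁ d₂ : B₁ →ₐ[A] Q)
    (y : A' ⊗[A] B₁)
    (h : ∀ (K : Type u) [Field K] (g₁ g₂ : A' ⊗[A] B₁ →+* K),
      g₁.comp (algebraMap A' (A' ⊗[A] B₁)) = g₂.comp (algebraMap A' (A' ⊗[A] B₁)) →
        g₁ y = g₂ y) :
    ∃ z, (LinearMap.ker (d₁.toLinearMap - d₂.toLinearMap)).subtype.lTensor A' z = y := by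
  have hred : IsReduced (A' ⊗[A] Q) := isReduced_baseChange Q
  have hu := eq_of_fields (Algebra.TensorProduct.map (AlgHom.id A' A') d₁)
    (Algebra.TensorProduct.map (AlgHom.id A' A') d₂) y h
  have hd : (d₁.toLinearMap - d₂.toLinearMap).lTensor A' y = 0 := by
    rw [LinearMap.lTensor_sub, LinearMap.sub_apply, sub_eq_zero]
    exact hu
  exact (Module.Flat.lTensor_exact (R := A) (M := A')
    (LinearMap.exact_subtype_ker_map (d₁.toLinearMap - d₂.toLinearMap)) y).mp hd

variable (hinj : Function.Injective (algebraMap A B)) (C : Subalgebra A B)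
    (hC : FlatMor.IsUnivHomeo (Spec.map (CommRingCat.ofHom (algebraMap A C))))
    (hmax : ∀ D : Subalgebra A B,
      FlatMor.IsUnivHomeo (Spec.map (CommRingCat.ofHom (algebraMap A D))) → D ≤ C)

include hinj hmax in
theorem mem_of_isNilpotent (b : integralClosure A B)
    (hb : IsNilpotent (b ⊗ₜ[A] (1 : integralClosure A B) - (1 : integralClosure A B) ⊗ₜ[A] b)) :
    (b : B) ∈ C := by
  have hinj' : Function.Injective (algebraMap A (integralClosure A B)) := by
    have : Function.Injective ((integralClosure A B).val ∘ algebraMap A (integralClosure A B)) :=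
      hinj
    exact Function.Injective.of_comp this
  have h1 := isUnivHomeo_adjoin hinj' hb
  have h2 := isUnivHomeo_of_algEquiv ((Algebra.adjoin A {b}).equivMapOfInjective
    (integralClosure A B).val Subtype.val_injective) h1
  exact hmax _ h2 ⟨b, Algebra.subset_adjoin rfl, rfl⟩

include hC in
/-- the image of `A' ⊗ C` in `A' ⊗ B` -/
theorem isUnivHomeo_range (hinj : Function.Injective (algebraMap A B)) [Module.Flat A A'] :
    FlatMor.IsUnivHomeo (Spec.map (CommRingCat.ofHom (algebraMap A'
      (Algebra.TensorProduct.map (AlgHom.id A' A') C.val).range))) := by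
  set m := Algebra.TensorProduct.map (AlgHom.id A' A') C.val with hm
  rw [isUnivHomeo_iff] at hC
  obtain ⟨h1, h2, h3⟩ := hC
  have hCi : Algebra.IsIntegral A C := algebraMap_isIntegral_iff.mp h1
  rw [isUnivHomeo_iff]
  refine ⟨?_, ?_, ?_⟩
  · rw [algebraMap_isIntegral_iff]
    exact Algebra.IsIntegral.of_surjective m.rangeRestrict m.rangeRestrict_surjective
  · rw [(RingHom.injective_iff_ker_eq_bot _).mp]
    · exact bot_le
    · have h4 : Function.Injective (algebraMap A' (A' ⊗[A] B)) :=
        Algebra.TensorProduct.includeLeft_injective (S := A) hinj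
      have : Function.Injective (m.range.val ∘ algebraMap A' m.range) := h4
      exact Function.Injective.of_comp this
  · intro K _ g₁ g₂ h12
    let c : C →+* m.range := (m.rangeRestrict.toRingHom).comp
      (Algebra.TensorProduct.includeRight : C →ₐ[A] A' ⊗[A] C).toRingHom
    have hc : c.comp (algebraMap A C) = (algebraMap A' m.range).comp (algebraMap A A') := by
      ext a
      change m (1 ⊗ₜ algebraMap A C a) = algebraMap A' (A' ⊗[A] B) (algebraMap A A' a)
      have e : (1 : A') ⊗ₜ[A] algebraMap A C a = algebraMap A' (A' ⊗[A] C) (algebraMap A A' a) := by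
        rw [Algebra.TensorProduct.algebraMap_apply, Algebra.algebraMap_self, RingHom.id_apply,
          Algebra.algebraMap_eq_smul_one a, Algebra.algebraMap_eq_smul_one a,
          TensorProduct.tmul_smul, TensorProduct.smul_tmul']
      rw [e, AlgHom.commutes]
    have h4 : g₁.comp c = g₂.comp c := h3 K (g₁.comp c) (g₂.comp c) (RingHom.ext fun a => by
      have e := RingHom.congr_fun hc a
      change c (algebraMap A C a) = algebraMap A' m.range (algebraMap A A' a) at e
      change g₁ (c (algebraMap A C a)) = g₂ (c (algebraMap A C a))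
      rw [e]
      exact RingHom.congr_fun h12 (algebraMap A A' a))
    have h5 : g₁.comp m.rangeRestrict.toRingHom = g₂.comp m.rangeRestrict.toRingHom := by
      refine RingHom.ext fun t => ?_
      induction t with
      | zero => simp only [map_zero]
      | add x y hx hy => rw [map_add, map_add, hx, hy]
      | tmul a x =>
        have e : a ⊗ₜ[A] x = algebraMap A' (A' ⊗[A] C) a * (1 ⊗ₜ[A] x) := by
          rw [Algebra.TensorProduct.algebraMap_apply, Algebra.TensorProduct.tmul_mul_tmul,
            mul_one, one_mul, Algebra.algebraMap_self, RingHom.id_apply]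
        have e1 : m.rangeRestrict.toRingHom (algebraMap A' (A' ⊗[A] C) a) =
          algebraMap A' m.range a := m.rangeRestrict.commutes a
        rw [e, map_mul, map_mul, RingHom.comp_apply, RingHom.comp_apply, RingHom.comp_apply,
          RingHom.comp_apply, e1]
        have e2 := RingHom.congr_fun h12 a
        have e3 := RingHom.congr_fun h4 x
        change g₁ (algebraMap A' m.range a) = g₂ (algebraMap A' m.range a) at e2
        change g₁ (m.rangeRestrict.toRingHom (1 ⊗ₜ x)) =
          g₂ (m.rangeRestrict.toRingHom (1 ⊗ₜ x)) at e3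
        rw [e2, e3]
    ext x
    obtain ⟨y, rfl⟩ := m.rangeRestrict_surjective x
    exact RingHom.congr_fun h5 y

/-- the reduction of `B₁ ⊗ B₁` -/
abbrev QQ (A B₁ : Type u) [CommRing A] [CommRing B₁] [Algebra A B₁] : Type u :=
  (B₁ ⊗[A] B₁) ⧸ nilradical (B₁ ⊗[A] B₁)

instance (A B₁ : Type u) [CommRing A] [CommRing B₁] [Algebra A B₁] : IsReduced (QQ A B₁) :=
  (nilradical (B₁ ⊗[A] B₁)).isRadical_iff_quotient_reduced.mp
    (Ideal.radical_isRadical (⊥ : Ideal (B₁ ⊗[A] B₁)))

noncomputable def dd₁ (A B₁ : Type u) [CommRing A] [CommRing B₁] [Algebra A B₁] : B₁ →ₐ[A] QQ A B₁ :=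
  (Ideal.Quotient.mkₐ A (nilradical (B₁ ⊗[A] B₁))).comp Algebra.TensorProduct.includeLeft

noncomputable def dd₂ (A B₁ : Type u) [CommRing A] [CommRing B₁] [Algebra A B₁] : B₁ →ₐ[A] QQ A B₁ :=
  (Ideal.Quotient.mkₐ A (nilradical (B₁ ⊗[A] B₁))).comp Algebra.TensorProduct.includeRight

theorem isNilpotent_of_mem_ker {A B₁ : Type u} [CommRing A] [CommRing B₁] [Algebra A B₁] (b : B₁)
    (hb : b ∈ LinearMap.ker ((dd₁ A B₁).toLinearMap - (dd₂ A B₁).toLinearMap)) :
    IsNilpotent (b ⊗ₜ[A] (1 : B₁) - (1 : B₁) ⊗ₜ[A] b) := by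
  rw [← mem_nilradical, ← Ideal.Quotient.eq_zero_iff_mem]
  exact hb

theorem fp_of_bijective {R S T : Type u} [CommRing R] [CommRing S] [CommRing T]
    [Algebra R S] [Algebra R T] {E : Subalgebra R T} (e : S ≃ₐ[R] E) (C' : Subalgebra R T)
    (hle : C' ≤ E) (h3 : FP (algebraMap R C')) {x : T} (hx : x ∈ C') {y : S}
    (hy : e y = ⟨x, hle hx⟩) (K : Type u) [Field K] (g₁ g₂ : S →+* K)
    (h12 : g₁.comp (algebraMap R S) = g₂.comp (algebraMap R S)) : g₁ y = g₂ y := by
  let j : C' →+* S :=
    (e.symm : _ →+* S).comp (Subalgebra.inclusion hle).toRingHom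
  have h4 := h3 K (g₁.comp j) (g₂.comp j) (RingHom.ext fun a => by
    have hj : j (algebraMap R C' a) = algebraMap R S a := e.symm.commutes a
    change g₁ (j (algebraMap R C' a)) = g₂ (j (algebraMap R C' a))
    rw [hj]
    exact RingHom.congr_fun h12 a)
  have h5 := RingHom.congr_fun h4 ⟨x, hx⟩
  have h6 : j ⟨x, hx⟩ = y := by
    change e.symm ⟨x, hle hx⟩ = y
    rw [AlgEquiv.symm_apply_eq]
    exact hy.symm
  change g₁ (j ⟨x, hx⟩) = g₂ (j ⟨x, hx⟩) at h5
  rwa [h6] at h5

include hinj hmax in
/-- **Weak subintegral closure commutes with weakly étale base change** (given that the integral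
closure does). -/
theorem main [Module.Flat A A'] [Algebra.WeaklyEtale A A'] (hC : FlatMor.IsUnivHomeo (Spec.map (CommRingCat.ofHom (algebraMap A C))))
    (hic : Function.Bijective (TensorProduct.toIntegralClosure A A' B))
    (C' : Subalgebra A' (A' ⊗[A] B))
    (hC' : FlatMor.IsUnivHomeo (Spec.map (CommRingCat.ofHom (algebraMap A' C'))))
    (hmax' : ∀ D : Subalgebra A' (A' ⊗[A] B),
      FlatMor.IsUnivHomeo (Spec.map (CommRingCat.ofHom (algebraMap A' D))) → D ≤ C') :
    (C' : Set (A' ⊗[A] B)) =
      Set.range (Algebra.TensorProduct.map (AlgHom.id A A') C.val) := by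
  apply subset_antisymm
  · intro x hx
    -- `x` comes from `A' ⊗ B₁`
    rw [isUnivHomeo_iff] at hC'
    obtain ⟨h1, h2, h3⟩ := hC'
    have hCi : Algebra.IsIntegral A' C' := algebraMap_isIntegral_iff.mp h1
    have hle : C' ≤ integralClosure A' (A' ⊗[A] B) := by
      intro z hz
      have := (Algebra.IsIntegral.isIntegral (R := A') (⟨z, hz⟩ : C')).map C'.val
      exact this
    obtain ⟨y, hy⟩ := hic.2 ⟨x, hle hx⟩
    have hy' : (integralClosure A B).val.toLinearMap.lTensor A' y = x := congrArg Subtype.val hy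
    have hfp := fp_of_bijective (AlgEquiv.ofBijective _ hic) C' hle h3 hx (y := y)
      (by rw [AlgEquiv.ofBijective_apply]; exact hy)
    obtain ⟨z, hz⟩ := mem_range_lTensor (A := A) (A' := A') (B₁ := integralClosure A B)
      (dd₁ A (integralClosure A B)) (dd₂ A (integralClosure A B)) y hfp
    -- the kernel of `d` maps to `C`
    have hker : ∀ b ∈ LinearMap.ker ((dd₁ A (integralClosure A B)).toLinearMap -
        (dd₂ A (integralClosure A B)).toLinearMap), (b : B) ∈ C := fun b hb =>
      mem_of_isNilpotent hinj C hmax b (isNilpotent_of_mem_ker b hb)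
    refine ⟨(((integralClosure A B).val.toLinearMap.comp (LinearMap.ker _).subtype).codRestrict
        (Subalgebra.toSubmodule C) fun b => hker b.1 b.2).lTensor A' z, ?_⟩
    rw [← hy', ← hz]
    change C.val.toLinearMap.lTensor A' _ = _
    rw [← LinearMap.comp_apply, ← LinearMap.comp_apply, ← LinearMap.lTensor_comp,
      ← LinearMap.lTensor_comp]
    rfl
  · rintro _ ⟨t, rfl⟩
    exact hmax' _ (isUnivHomeo_range C hC hinj) ⟨t, rfl⟩

end

end K835.Subint
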