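import Groth.Agent.Sga1.UnivSub
import Mathlib.AlgebraicGeometry.ZariskisMainTheorem
import Mathlib.AlgebraicGeometry.Morphisms.Etale
import Mathlib.RingTheory.Unramified.LocalStructure

/-!
# Finiteness of étale morphisms descends along universally submersive morphisms
-/

set_option autoImplicit false
open CategoryTheory CategoryTheory.Limits AlgebraicGeometry
universe u

namespace K835.EtaleQF

theorem locallyQuasiFinite_of_etale {X Y : Scheme.{u}} (f : X ⟶ Y) [Etale f] :
    LocallyQuasiFinite f where
  quasiFinite_appLE {U} hU {V} hV e := by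
    have h := HasRingHomProperty.appLE @Etale f ‹_› ⟨U, hU⟩ ⟨V, hV⟩ e
    algebraize [(f.appLE U V e).hom]
    change Algebra.QuasiFinite Γ(Y, U) Γ(X, V)
    infer_instance

theorem isFinite_of_univSubmersive {X S S' : Scheme.{u}} (g : S' ⟶ S)
    (hg : SGA1.UnivSubmersive g) (f : X ⟶ S) [Etale f] [IsFinite (pullback.snd f g)] :
    IsFinite f := by
  have h := (IsPullback.of_hasPullback f g).flip
  have h1 : UniversallyClosed f := MorphismProperty.of_isPullback_of_descendsAlong
    (P := @UniversallyClosed) (Q := SGA1.UnivSubmersive) h hg inferInstance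
  have h2 : IsSeparated f := MorphismProperty.of_isPullback_of_descendsAlong
    (P := @IsSeparated) (Q := SGA1.UnivSubmersive) h hg inferInstance
  have h3 : IsProper f := {}
  have h4 : LocallyQuasiFinite f := locallyQuasiFinite_of_etale f
  exact IsFinite.of_isProper_of_locallyQuasiFinite f

end K835.EtaleQF
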