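import Groth.Agent.Subtr.K835.Stage

/-!
# Flat refinements of a morphism

`IsRef P f e`: the base change of `f : X ⟶ Y` along `e : E ⟶ Y` receives a morphism with property `P`
from a flat surjective finitely presented scheme over `E`.
-/

set_option autoImplicit false
universe u
open CategoryTheory CategoryTheory.Limits AlgebraicGeometry

namespace K835.Ref

open Groth.Agent.Ega43.LimDesc (Descends)
open Groth.Agent.CalgA.LimFP
open K835.Stage

theorem of_isPullback_of_isPullback {P : MorphismProperty Scheme.{u}}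
    [P.IsStableUnderBaseChange] {A N Xi Yi A₂ N₂ : Scheme.{u}} {w : A ⟶ N} {pX : Xi ⟶ A}
    {fi : Xi ⟶ Yi} {pY : Yi ⟶ N} (hX : IsPullback pX fi w pY) {qX : A₂ ⟶ A} {v : A₂ ⟶ N₂}
    {qN : N₂ ⟶ N} (h₂ : IsPullback qX v w qN) (t : N₂ ⟶ Yi) (ht : t ≫ pY = qN) (h : P fi) :
    P v := by
  have hw : qX ≫ w = (v ≫ t) ≫ pY := by rw [Category.assoc, ht, h₂.w]
  have h3 : IsPullback (hX.lift qX (v ≫ t) hw) v fi t := by
    refine IsPullback.of_right (h₁₂ := pX) (h₂₂ := pY) (v₁₃ := w) ?_ (hX.lift_snd _ _ _) hX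
    rw [hX.lift_fst, ht]
    exact h₂
  exact P.of_isPullback h3 h

section Hom

variable {I : Type u} [SmallCategory I] [IsCofiltered I] {D : I ⥤ Scheme.{u}} {c : Cone D}
  (hc : IsLimit c) [hDa : ∀ (i j : I) (f : i ⟶ j), IsAffineHom (D.map f)]
  [∀ i, CompactSpace (D.obj i)] [∀ i, QuasiSeparatedSpace (D.obj i)]

include hc hDa in
/-- A morphism of models acquires at some later stage a property which descends along limits. -/
theorem exists_up_hom {P : MorphismProperty Scheme.{u}} [P.IsStableUnderBaseChange]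
    (hP : Descends P) {A' B' : Scheme.{u}} {f' : A' ⟶ c.pt} {g' : B' ⟶ c.pt} {k : A' ⟶ B'}
    (hk : P k) {i : I} {M : Mdl f' i} {N : Mdl g' i} (w : Mdl.Hom k M N) :
    ∃ (j : I) (a : j ⟶ i), P (w.bc a).φ := by
  have := M.lfp
  have := M.qc
  have := M.qs
  have := N.lfp
  have := N.qc
  have := N.qs
  have h1 : LocallyOfFinitePresentation (w.φ ≫ N.f) := w.w ▸ M.lfp
  have h2 : QuasiCompact (w.φ ≫ N.f) := w.w ▸ M.qc
  have h3 : QuasiSeparated (w.φ ≫ N.f) := w.w ▸ M.qs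
  obtain ⟨j, a, Xi, Yi, fi, gi, pY, pX, hY, hX, hfi⟩ :=
    Groth.Agent.Ega43.LimDesc.Descends.result hP D c hc i w.φ N.f k g' N.p M.p N.h w.isPullback hk
  refine ⟨j, a, ?_⟩
  have hN : (pullback.fst N.f (D.map a)) ≫ N.f = pullback.snd N.f (D.map a) ≫ D.map a :=
    pullback.condition
  exact of_isPullback_of_isPullback hX (w.isPullback_bc a) (hY.lift _ _ hN) (hY.lift_fst _ _ hN)
    hfi

end Hom

/-- The base change of `f : X ⟶ Y` along `e : E ⟶ Y` receives a morphism with property `P`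
from a flat surjective finitely presented scheme over `E`. -/
def IsRef (P : MorphismProperty Scheme.{u}) {X Y : Scheme.{u}} (f : X ⟶ Y) {E : Scheme.{u}}
    (e : E ⟶ Y) : Prop :=
  ∃ (X'' : Scheme.{u}) (p : X'' ⟶ E) (k : X'' ⟶ pullback f e), k ≫ pullback.snd f e = p ∧
    Flat p ∧ Surjective p ∧ LocallyOfFinitePresentation p ∧ QuasiCompact p ∧ QuasiSeparated p ∧ P k

theorem isRef_comp {P : MorphismProperty Scheme.{u}} [P.IsStableUnderBaseChange]
    {X Y : Scheme.{u}} (f : X ⟶ Y) {E E' : Scheme.{u}} (t : E' ⟶ E) (e : E ⟶ Y)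
    (h : IsRef P f e) : IsRef P f (t ≫ e) := by
  obtain ⟨X'', p, k, rfl, h1, h2, h3, h4, h5, hk⟩ := h
  -- the base change of `X ×_Y E` along `t`
  have hq : IsPullback (pullback.lift (pullback.fst f (t ≫ e)) (pullback.snd f (t ≫ e) ≫ t)
      (by rw [Category.assoc]; exact pullback.condition)) (pullback.snd f (t ≫ e))
      (pullback.snd f e) t := by
    refine IsPullback.of_right (h₁₂ := pullback.fst f e) (h₂₂ := e) (v₁₃ := f) ?_
      (pullback.lift_snd _ _ _) (IsPullback.of_hasPullback f e)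
    rw [pullback.lift_fst]
    exact IsPullback.of_hasPullback f (t ≫ e)
  have hp := IsPullback.of_hasPullback (k ≫ pullback.snd f e) t
  have hw : (pullback.fst (k ≫ pullback.snd f e) t ≫ k) ≫ pullback.snd f e =
      pullback.snd (k ≫ pullback.snd f e) t ≫ t := by
    rw [Category.assoc, pullback.condition]
  refine ⟨pullback (k ≫ pullback.snd f e) t, pullback.snd _ _, hq.lift _ _ hw,
    hq.lift_snd _ _ _, inferInstance, inferInstance, inferInstance, inferInstance,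
    inferInstance, ?_⟩
  have h6 : IsPullback (pullback.fst (k ≫ pullback.snd f e) t) (hq.lift _ _ hw) k
      (pullback.lift (pullback.fst f (t ≫ e)) (pullback.snd f (t ≫ e) ≫ t)
      (by rw [Category.assoc]; exact pullback.condition)) := by
    refine IsPullback.of_bot (v₂₁ := pullback.snd f (t ≫ e)) (v₂₂ := pullback.snd f e) (h₃₁ := t)
      ?_ (hq.lift_fst _ _ _).symm hq
    rw [hq.lift_snd]
    exact hp
  exact P.of_isPullback h6 hk

theorem isRef_stage {P : MorphismProperty Scheme.{u}} [P.IsStableUnderBaseChange]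
    (hP : Descends P)
    {X Y : Scheme.{u}} (f : X ⟶ Y) [LocallyOfFinitePresentation f] [QuasiCompact f]
    [QuasiSeparated f] {I : Type u} [SmallCategory I] [IsCofiltered I] (D : I ⥤ Scheme.{u})
    (c : Cone D) (hc : IsLimit c) [hDa : ∀ (i j : I) (f : i ⟶ j), IsAffineHom (D.map f)]
    [∀ i, CompactSpace (D.obj i)] [∀ i, QuasiSeparatedSpace (D.obj i)]
    (i₀ : I) (e₀ : D.obj i₀ ⟶ Y) (h : IsRef P f (c.π.app i₀ ≫ e₀)) :
    ∃ (i : I) (φ : i ⟶ i₀), IsRef P f (D.map φ ≫ e₀) := by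
  have hFl : MorphismProperty.RespectsIso @Flat.{u} :=
    MorphismProperty.IsStableUnderBaseChange.respectsIso
  have hSj : MorphismProperty.RespectsIso @Surjective.{u} :=
    MorphismProperty.IsStableUnderBaseChange.respectsIso
  have hPi : P.RespectsIso := MorphismProperty.IsStableUnderBaseChange.respectsIso
  obtain ⟨X'', p, k, hkp, h1, h2, h3, h4, h5, hk⟩ := h
  -- the model of the base change of `f`
  have hq : IsPullback (pullback.lift (pullback.fst f (c.π.app i₀ ≫ e₀))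
      (pullback.snd f (c.π.app i₀ ≫ e₀) ≫ c.π.app i₀)
      (by rw [Category.assoc]; exact pullback.condition)) (pullback.snd f (c.π.app i₀ ≫ e₀))
      (pullback.snd f e₀) (c.π.app i₀) := by
    refine IsPullback.of_right (h₁₂ := pullback.fst f e₀) (h₂₂ := e₀) (v₁₃ := f) ?_
      (pullback.lift_snd _ _ _) (IsPullback.of_hasPullback f e₀)
    rw [pullback.lift_fst]
    exact IsPullback.of_hasPullback f (c.π.app i₀ ≫ e₀)
  obtain ⟨N, hNA⟩ : ∃ N : Mdl (pullback.snd f (c.π.app i₀ ≫ e₀)) i₀,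
      ∃ ι : N.A ≅ pullback f e₀, ι.hom ≫ pullback.snd f e₀ = N.f :=
    ⟨⟨pullback f e₀, pullback.snd f e₀, _, hq, inferInstance, inferInstance, inferInstance⟩,
      Iso.refl _, by simp⟩
  obtain ⟨ι, hι⟩ := hNA
  obtain ⟨i₁, φ₁, ⟨M₁⟩⟩ := exists_model_over hc p i₀
  obtain ⟨i₂, a₂, ⟨w₂⟩⟩ := M₁.exists_hom hc (N.bc φ₁) k hkp
  obtain ⟨i₃, a₃, hf₃⟩ := exists_up hc descends_flat (f' := p) h1 (M₁.bc a₂)
  obtain ⟨i₄, a₄, hf₄⟩ := exists_up hc Groth.Agent.Ega43.LimSurj.descends_surjective (f' := p) h2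
    ((M₁.bc a₂).bc a₃)
  obtain ⟨i₅, a₅, hw₅⟩ := exists_up_hom hc hP hk ((w₂.bc a₃).bc a₄)
  have hf₅ : Flat ((((M₁.bc a₂).bc a₃).bc a₄).bc a₅).f :=
    bc_prop (P := @Flat) _ (bc_prop (P := @Flat) _ hf₃ a₄) a₅
  have hs₅ : Surjective ((((M₁.bc a₂).bc a₃).bc a₄).bc a₅).f :=
    bc_prop (P := @Surjective) _ hf₄ a₅
  obtain ⟨M, w, hw₆, hf₆, hs₆⟩ : ∃ (M : Mdl p i₅)
      (w : Mdl.Hom k M (((((N.bc φ₁).bc a₂).bc a₃).bc a₄).bc a₅)),
      P w.φ ∧ Flat M.f ∧ Surjective M.f := ⟨_, _, hw₅, hf₅, hs₅⟩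
  -- the comparison of `X ×_Y D i₅` and the base change of `N`
  obtain ⟨κ, hκ⟩ : ∃ κ : ((((N.bc φ₁).bc a₂).bc a₃).bc a₄ |>.bc a₅).A ≅
      pullback f (D.map (a₅ ≫ a₄ ≫ a₃ ≫ a₂ ≫ φ₁) ≫ e₀),
      κ.hom ≫ pullback.snd _ _ = ((((N.bc φ₁).bc a₂).bc a₃).bc a₄ |>.bc a₅).f := by
    have s1 := IsPullback.of_hasPullback N.f (D.map φ₁)
    have s2 := (IsPullback.of_hasPullback (N.bc φ₁).f (D.map a₂)).paste_horiz s1
    have s3 := (IsPullback.of_hasPullback ((N.bc φ₁).bc a₂).f (D.map a₃)).paste_horiz s2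
    have s4 := (IsPullback.of_hasPullback (((N.bc φ₁).bc a₂).bc a₃).f (D.map a₄)).paste_horiz s3
    have s5 := (IsPullback.of_hasPullback ((((N.bc φ₁).bc a₂).bc a₃).bc a₄).f
      (D.map a₅)).paste_horiz s4
    have s0 : IsPullback (ι.hom ≫ pullback.fst f e₀) N.f f e₀ :=
      IsPullback.of_iso (IsPullback.of_hasPullback f e₀) ι.symm (Iso.refl _) (Iso.refl _)
        (Iso.refl _) (by simp) (by simp [← hι]) (by simp) (by simp)
    have s6 := s5.paste_horiz s0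
    rw [← D.map_comp, ← D.map_comp, ← D.map_comp, ← D.map_comp] at s6
    exact ⟨s6.isoIsPullback _ _ (IsPullback.of_hasPullback _ _),
      IsPullback.isoIsPullback_hom_snd _ _ _ _⟩
  refine ⟨i₅, a₅ ≫ a₄ ≫ a₃ ≫ a₂ ≫ φ₁, M.A, M.f, w.φ ≫ κ.hom, ?_, hf₆, hs₆, M.lfp, M.qc,
    M.qs, (P.cancel_right_of_respectsIso _ _).2 hw₆⟩
  rw [Category.assoc, hκ, w.w]

theorem good_isRef {P : MorphismProperty Scheme.{u}} [P.IsStableUnderBaseChange]
    (hP : Descends P) {X Y : Scheme.{u}} (f : X ⟶ Y) [LocallyOfFinitePresentation f]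
    [QuasiCompact f] [QuasiSeparated f] : Good Y (fun e => IsRef P f e) where
  comp k e h := isRef_comp f k e h
  stage D c hc _ _ _ i₀ e₀ h := isRef_stage hP f D c hc i₀ e₀ h

theorem descends_top : Descends (⊤ : MorphismProperty Scheme.{u}) := by
  intro I _ _ D c hc _ _ _ i₀ X₀ f₀ _ _ _ X q f h hf
  exact ⟨i₀, 𝟙 _, _, _, _, IsPullback.of_hasPullback f₀ (D.map (𝟙 i₀)), trivial⟩

theorem descends_inf {P Q : MorphismProperty Scheme.{u}} [P.IsStableUnderBaseChange]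
    [Q.IsStableUnderBaseChange] (hP : Descends P) (hQ : Descends Q) : Descends (P ⊓ Q) := by
  intro I _ _ D c hc _ _ _ i₀ X₀ f₀ _ _ _ X q f h hf
  obtain ⟨i, φ, Xi, pi, fi, hi, hPi⟩ := hP D c hc i₀ f₀ q f h hf.1
  obtain ⟨j, ψ, Xj, pj, fj, hj, hQj⟩ := hQ D c hc i₀ f₀ q f h hf.2
  obtain ⟨k, a, b, hab⟩ := IsCofilteredOrEmpty.cone_objs i j
  have hk : ∃ (l : I) (m : l ⟶ k), m ≫ a ≫ φ = m ≫ b ≫ ψ :=
    ⟨IsCofiltered.eq (a ≫ φ) (b ≫ ψ), IsCofiltered.eqHom _ _, IsCofiltered.eq_condition _ _⟩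
  obtain ⟨l, m, hm⟩ := hk
  have aux : ∀ {R : MorphismProperty Scheme.{u}} [R.IsStableUnderBaseChange] {i' : I}
      (φ' : i' ⟶ i₀) {Xi : Scheme.{u}} (pi : Xi ⟶ X₀) (fi : Xi ⟶ D.obj i')
      (_ : IsPullback pi fi f₀ (D.map φ')) (_ : R fi) (m' : l ⟶ i') (t : l ⟶ i₀)
      (_ : m' ≫ φ' = t), R (pullback.snd f₀ (D.map t)) := by
    intro R _ i' φ' Xi pi fi hi hR m' t ht
    subst ht
    have e1 := IsPullback.of_hasPullback f₀ (D.map (m' ≫ φ'))
    exact of_isPullback_of_isPullback hi e1 (D.map m') (D.map_comp _ _).symm hR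
  exact ⟨l, m ≫ a ≫ φ, _, _, _, IsPullback.of_hasPullback f₀ (D.map (m ≫ a ≫ φ)),
    aux φ pi fi hi hPi (m ≫ a) _ (by rw [Category.assoc]),
    aux ψ pj fj hj hQj (m ≫ b) _ (by rw [Category.assoc, hm])⟩

theorem descends_nil : Descends (@IsClosedImmersion.{u} ⊓ @Surjective.{u}) :=
  descends_inf Groth.Agent.Ega43.LimitDescendClosed.descends_isClosedImmersion
    Groth.Agent.Ega43.LimSurj.descends_surjective

end K835.Ref
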